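import Cfsg.Agent.Base
import Cfsg.Agent.PLocal.ElemAb

/-!
# The final configuration of Kurzweil–Stellmacher, chapter 12

`Side B L A V D`: the subgroup `L ≅ S₄ × D` with Sylow 2-subgroup `B`, `A = O₂(L) = V × D`
elementary abelian, `V = [A, L]` a four-group and `D = Z(L)` of order at most 2.
-/

set_option autoImplicit false

namespace CL.NGr

open Cfsg Subgroup
open scoped commutatorElement

variable {G : Type*} [Group G]

/-- One side of the final configuration: `L ≅ S₄ × D` over its Sylow 2-subgroup `B`. -/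
structure Side (B L A V D : Subgroup G) : Prop where
  hBL : B ≤ L
  idxL : B.relIndex L = 3
  ea : IsElementaryAbelian 2 A
  hAB : A ≤ B
  idxA : A.relIndex B = 2
  nA : L ≤ normalizer (A : Set G)
  hVA : V ≤ A
  cardV : Nat.card V = 4
  commV : ⁅A, L⁆ = V
  nV : L ≤ normalizer (V : Set G)
  cV : L ⊓ centralizer (V : Set G) ≤ A
  moves : V ⊓ centralizer (L : Set G) = ⊥
  hDA : D ≤ A
  cardD : Nat.card D ≤ 2
  cD : L ≤ centralizer (D : Set G)
  sup : V ⊔ D = A
  inf : V ⊓ D = ⊥

/-- In every 2-local subgroup over `L`, every 2-subgroup `T` over `B` has `J(T) = B` and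
`C_T(Z(B)) = B` (here `Z = Z(B)` and `n` is the order of the two elementary abelian maximal
subgroups of `B`). -/
def Tight (B L Z : Subgroup G) (n : ℕ) : Prop :=
  ∀ N : Subgroup G, IsTwoLocal N → L ≤ N → ∀ T : Subgroup G, IsPGroup 2 T → B ≤ T → T ≤ N →
    (∀ E : Subgroup G, E ≤ T → IsElementaryAbelian 2 E → n ≤ Nat.card E → E ≤ B) ∧
      T ⊓ centralizer (Z : Set G) ≤ B

end CL.NGr
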