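import Cfsg.Agent.NGr.CorTriple
import Cfsg.Agent.PSL2.TwoGen
import Cfsg.Agent.PSL2.Maximal
import Cfsg.Agent.Lin.Card

/-! Coprime triples in `PSL₂(q)` and `PSL₃(3)`. -/

set_option autoImplicit false
open Cfsg Matrix CL.PSL2
open scoped MatrixGroups

namespace CL.NGr

variable {F : Type*} [Field F]

theorem PSL_pow_eq_one_of_smul (g : SL(2, F)) {k : ℕ} {c : F}
    (h : (g : Matrix (Fin 2) (Fin 2) F) ^ k = c • 1) : (g : PSL(2, F)) ^ k = 1 := by
  rw [PSL_pow_eq_one_iff_toPGL]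
  exact mk_pow_eq_one_of_map (RingHom.id F) (Matrix.SpecialLinearGroup.toGL g) (c := c)
    (by simpa using h)

theorem PSL_pow_char_of_trace (p : ℕ) [Fact p.Prime] [CharP F p] (g : SL(2, F)) {t : F}
    (ht : t * t = 1) (h : t + t = (g : Matrix (Fin 2) (Fin 2) F).trace) :
    (g : PSL(2, F)) ^ p = 1 :=
  PSL_pow_eq_one_of_smul g (pow_char_eq_smul_one p _ h (by rw [g.det_coe, ht]))

theorem PSL_pow_split_of_trace [Fintype F] (g : SL(2, F)) {t s : F} (ht : t * s = 1) (hts : t ≠ s)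
    (h : t + s = (g : Matrix (Fin 2) (Fin 2) F).trace) :
    (g : PSL(2, F)) ^ ((Fintype.card F - 1) / Nat.gcd 2 (Fintype.card F - 1)) = 1 := by
  have h0 := left_ne_zero_of_mul_eq_one ht
  refine PSL_pow_eq_one_of_smul g (pow_eq_smul_one_of_ne _ h (by rw [g.det_coe, ht]) hts ?_)
  apply mul_left_cancel₀ (pow_ne_zero ((Fintype.card F - 1) / Nat.gcd 2 (Fintype.card F - 1)) h0)
  rw [← mul_pow t s, ht, one_pow, ← pow_add, ← two_mul]
  have h1 := FiniteField.pow_card_sub_one_eq_one t h0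
  rcases Nat.even_or_odd (Fintype.card F) with h | h
  · rw [gcd_two_of_even h Fintype.card_ne_zero, Nat.div_one, mul_comm, pow_mul, h1, one_pow]
  · obtain ⟨k, hk⟩ := h
    rwa [gcd_two_of_odd ⟨k, hk⟩, show 2 * ((Fintype.card F - 1) / 2) = Fintype.card F - 1 by omega]

theorem coprime_sub_add_div {q : ℕ} (hq : q ≠ 0) :
    ((q - 1) / Nat.gcd 2 (q - 1)).Coprime ((q + 1) / Nat.gcd 2 (q - 1)) := by
  rcases Nat.even_or_odd q with h | h
  · rw [gcd_two_of_even h hq, Nat.div_one, Nat.div_one, show q + 1 = 2 + (q - 1) by omega,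
      Nat.coprime_add_self_right, Nat.coprime_two_right]
    obtain ⟨k, hk⟩ := h
    exact ⟨k - 1, by omega⟩
  · rw [gcd_two_of_odd h]
    obtain ⟨k, rfl⟩ := h
    rw [show (2 * k + 1 - 1) / 2 = k by omega, show (2 * k + 1 + 1) / 2 = k + 1 by omega]
    simp

theorem psl2_hasTriple [Fintype F] (h4 : 4 ≤ Fintype.card F) : HasTriple PSL(2, F) := by
  classical
  obtain ⟨p, hp⟩ := CharP.exists F
  have := Fact.mk (CharP.char_is_prime F p)
  obtain ⟨n, hpp, hn⟩ := FiniteField.card F p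
  have hpq : p ∣ Fintype.card F := hn ▸ dvd_pow_self p n.ne_zero
  have hd : Nat.gcd 2 (Fintype.card F - 1) ∣ Fintype.card F + 1 := by
    rw [show Fintype.card F + 1 = 2 + (Fintype.card F - 1) by omega]
    exact dvd_add (Nat.gcd_dvd_left _ _) (Nat.gcd_dvd_right _ _)
  have c1 : p.Coprime ((Fintype.card F + 1) / Nat.gcd 2 (Fintype.card F - 1)) :=
    Nat.Coprime.coprime_dvd_right (Nat.div_dvd_of_dvd hd)
      (Nat.Coprime.coprime_dvd_left hpq (by simp))
  have c2 : p.Coprime ((Fintype.card F - 1) / Nat.gcd 2 (Fintype.card F - 1)) :=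
    Nat.Coprime.coprime_dvd_right (Nat.div_dvd_of_dvd (Nat.gcd_dvd_right _ _))
      (Nat.Coprime.coprime_dvd_left hpq (Nat.coprime_self_sub_right (by omega) |>.2 (by simp)))
  have c3 := coprime_sub_add_div (q := Fintype.card F) (by omega)
  obtain ⟨D, ⟨e⟩⟩ := exists_dihedral_nonsplit (F := F) p
  obtain ⟨c, -, hc⟩ := exists_orderOf_of_dihedral e
  have hc1 : c ≠ 1 := by
    rintro rfl
    have h1 := Nat.div_mul_cancel hd
    have h2 := Nat.gcd_le_left (Fintype.card F - 1) (show 0 < 2 by norm_num)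
    rw [← hc, orderOf_one] at h1
    omega
  obtain ⟨g, rfl⟩ := QuotientGroup.mk_surjective c
  have hg : (g : PSL(2, F)) ^ ((Fintype.card F + 1) / Nat.gcd 2 (Fintype.card F - 1)) = 1 := by
    rw [← hc, pow_orderOf_eq_one]
  have h10 : g 1 0 ≠ 0 := fun h0 => by
    have hdet : g 0 0 * g 1 1 = 1 := by
      have := g.det_coe
      rw [det_fin_two] at this
      linear_combination this + g 0 1 * h0
    by_cases h : g 0 0 = g 1 1
    · exact hc1 (eq_one_of_pow_coprime c1 (PSL_pow_char_of_trace p g (t := g 0 0)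
        (by linear_combination hdet + g 0 0 * h) (by rw [trace_fin_two, ← h])) hg)
    · exact hc1 (eq_one_of_pow_coprime c3 (PSL_pow_split_of_trace g hdet h
        (by rw [trace_fin_two])) hg)
  obtain ⟨t, ht⟩ : ∃ t : F, t ∉ ({0, 1, -1} : Finset F) := by
    by_contra h
    push Not at h
    have h1 := Finset.card_le_card (fun t _ => h t : Finset.univ ⊆ ({0, 1, -1} : Finset F))
    have h2 : ({0, 1, -1} : Finset F).card ≤ 3 := Finset.card_le_three
    rw [Finset.card_univ] at h1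
    omega
  simp only [Finset.mem_insert, Finset.mem_singleton, not_or] at ht
  have hts : t ≠ t⁻¹ := fun h => by
    have : (t - 1) * (t + 1) = 0 := by
      linear_combination t * h + mul_inv_cancel₀ ht.1
    rcases mul_eq_zero.1 this with h | h
    · exact ht.2.1 (by linear_combination h)
    · exact ht.2.2 (by linear_combination h)
  let u : SL(2, F) := upT ((t + t⁻¹ - g 0 0 - g 1 1) / g 1 0)
  have hu : (u : PSL(2, F)) ^ p = 1 :=
    PSL_pow_char_of_trace p u (t := 1) (mul_one 1) (by simp [u, coe_upT])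
  have hug := PSL_pow_split_of_trace (u * g) (mul_inv_cancel₀ ht.1) hts (by
    have := div_mul_cancel₀ (t + t⁻¹ - g 0 0 - g 1 1) h10
    rw [Matrix.SpecialLinearGroup.coe_mul, coe_upT, trace_fin_two, Matrix.mul_apply, Matrix.mul_apply,
      Fin.sum_univ_two, Fin.sum_univ_two]
    simp only [of_apply, cons_val', cons_val_zero, cons_val_one, cons_val_fin_one]
    linear_combination -this)
  refine hasTriple_of_pow (b := ((u * g : SL(2, F)) : PSL(2, F))⁻¹) hg
    (by rw [inv_pow, hug, inv_one]) hu c3.symm c2.symm c1.symm ?_ hc1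
  rw [QuotientGroup.mk_mul]; group

theorem psl33_hasTriple [Fintype F] (hF : Fintype.card F = 3) : HasTriple PSL(3, F) := by
  obtain ⟨e⟩ := CL.Lin.nonempty_pslCongr (ι := Fin 3) (F := F) (K := ZMod 3) (by simpa using hF)
  refine HasTriple.of_mulEquiv e ?_
  let A : SL(3, ZMod 3) := ⟨!![2, 0, 0; 0, 2, 0; 2, 0, 1], by decide⟩
  let B : SL(3, ZMod 3) := ⟨!![0, 0, 1; 1, 0, 0; 0, 1, 0], by decide⟩
  have hA : A ^ 2 = 1 := by decide +kernel
  have hB : B ^ 3 = 1 := by decide +kernel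
  have hAB : (A * B) ^ 13 = 1 := by decide +kernel
  refine hasTriple_of_pow (a := (A : PSL(3, ZMod 3))) (b := (B : PSL(3, ZMod 3)))
    (c := ((A * B : SL(3, ZMod 3)) : PSL(3, ZMod 3))⁻¹) (l := 2) (m := 3) (n := 13)
    (by rw [← QuotientGroup.mk_pow, hA]; rfl) (by rw [← QuotientGroup.mk_pow, hB]; rfl)
    (by rw [inv_pow, ← QuotientGroup.mk_pow, hAB, inv_eq_one]; rfl) (by norm_num) (by norm_num) (by norm_num)
    (by rw [QuotientGroup.mk_mul]; group) fun h => ?_
  exact absurd (Subgroup.mem_center_iff.1 ((QuotientGroup.eq_one_iff A).1 h) B) (by decide +kernel)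

theorem card_psl33 [Fintype F] (hF : Fintype.card F = 3) : Nat.card PSL(3, F) = 5616 := by
  have h1 := CL.Lin.card_PSL_mul (ι := Fin 3) (F := F)
  have h2 := CL.Lin.card_SL_mul (ι := Fin 3) (F := F)
  rw [CL.Lin.card_GL, hF] at h2
  rw [hF] at h1
  simp only [Fintype.card_fin] at h1 h2
  rw [show ∏ i : Fin (Fintype.card (Fin 3)), (3 ^ 3 - 3 ^ (i : ℕ)) = 11232 by decide] at h2
  norm_num at h1
  omega

end CL.NGr
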