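import Cfsg.Agent.NGr.CorTriple
import Cfsg.Agent.Chev.U33
import Cfsg.Agent.Spor.M11OrdC

/-! `A₇`, `M₁₁` and `PSU₃(3)` are not minimal simple. -/

set_option autoImplicit false
open Cfsg Subgroup

namespace CL.NGr

variable {G : Type*} [Group G]

theorem not_isMinimalSimple_of_pow (H : Subgroup G) (hH : H ≠ ⊤) {a b : G} (ha : a ∈ H)
    (hb : b ∈ H) {l m n : ℕ} (hl : a ^ l = 1) (hm : b ^ m = 1) (hn : (a * b) ^ n = 1)
    (hlm : l.Coprime m) (hmn : m.Coprime n) (hln : l.Coprime n) (h1 : a ≠ 1) :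
    ¬ IsMinimalSimple G := fun h =>
  (hasTriple_of_pow (G := H) (a := ⟨a, ha⟩) (b := ⟨b, hb⟩) (c := (⟨a, ha⟩ * ⟨b, hb⟩)⁻¹)
    (Subtype.ext hl) (Subtype.ext hm) (by rw [inv_pow, inv_eq_one]; exact Subtype.ext hn)
    hlm hmn hln (mul_inv_cancel _) fun e => h1 (congrArg Subtype.val e)).not_isSolvable (h.2.2 H hH)

/-- The permutations preserving a colouring. -/
def presv {α β : Type*} (P : α → β) : Subgroup (Equiv.Perm α) where
  carrier := {x | ∀ i, P (x i) = P i}
  mul_mem' {x y} hx hy i := by rw [Equiv.Perm.mul_apply, hx, hy]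
  one_mem' _ := rfl
  inv_mem' {x} hx i := by rw [← hx]; simp

theorem not_isMinimalSimple_of_perm {α β : Type*} (K : Subgroup (Equiv.Perm α)) (P : α → β)
    {a b g : Equiv.Perm α} (ha : a ∈ K) (hb : b ∈ K) (hg : g ∈ K) (pa : ∀ i, P (a i) = P i)
    (pb : ∀ i, P (b i) = P i) (pg : ¬ ∀ i, P (g i) = P i) {l m n : ℕ} (hl : a ^ l = 1)
    (hm : b ^ m = 1) (hn : (a * b) ^ n = 1) (hlm : l.Coprime m) (hmn : m.Coprime n)
    (hln : l.Coprime n) (h1 : a ≠ 1) : ¬ IsMinimalSimple K :=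
  not_isMinimalSimple_of_pow ((presv P).subgroupOf K)
    (fun h => pg (h.ge (mem_top (⟨g, hg⟩ : K)))) (a := ⟨a, ha⟩) (b := ⟨b, hb⟩) pa pb (Subtype.ext hl)
    (Subtype.ext hm) (Subtype.ext hn) hlm hmn hln fun e => h1 (congrArg Subtype.val e)

theorem not_isMinimalSimple_A7 : ¬ IsMinimalSimple (alternatingGroup (Fin 7)) :=
  not_isMinimalSimple_of_perm _ (fun i : Fin 7 => decide (i = 6))
    (a := Equiv.swap 0 1 * Equiv.swap 2 3) (b := Equiv.swap 0 4 * Equiv.swap 0 2)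
    (g := Equiv.swap 0 1 * Equiv.swap 5 6) (l := 2) (m := 3) (n := 5)
    (Equiv.Perm.mem_alternatingGroup.2 (by decide)) (Equiv.Perm.mem_alternatingGroup.2 (by decide))
    (Equiv.Perm.mem_alternatingGroup.2 (by decide)) (by decide) (by decide) (by decide) (by decide)
    (by decide) (by decide +kernel) (by norm_num) (by norm_num) (by norm_num) (by decide)

theorem not_isMinimalSimple_grp : ¬ IsMinimalSimple CL.U33.grp :=
  not_isMinimalSimple_of_perm _ (fun i : Fin 63 => Nat.testBit 2887370934943194703 i)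
    (CL.U33.word_mem [0]) (CL.U33.word_mem [1, 4, 1, 2, 4, 4]) (CL.U33.word_mem [4])
    (l := 2) (m := 3) (n := 7) (by decide +kernel) (by decide +kernel) (by decide +kernel)
    (Equiv.ext (by decide +kernel)) (Equiv.ext (by decide +kernel))
    (Equiv.ext (by decide +kernel)) (by norm_num) (by norm_num) (by norm_num)
    fun h => absurd (congrArg (fun x : Equiv.Perm (Fin 63) => x 0) h) (by decide +kernel)

theorem not_isMinimalSimple_U33 {F : Type*} [Field F] [Fintype F] (hF : Fintype.card F = 9) :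
    ¬ IsMinimalSimple (PSU 3 F 3) := fun h => by
  obtain ⟨σ, hσ⟩ := CL.Herm.exists_conj' (q := 3) hF
  obtain ⟨e⟩ := CL.U33.nonempty_PSU_equiv_SU hσ
  obtain ⟨e'⟩ := CL.U33.nonempty_SU_equiv hσ
  exact not_isMinimalSimple_grp (isMinimalSimple_of_mulEquiv (e.trans e') h)

open CL.Ord in
theorem not_isMinimalSimple_M11 [Finite G] (hG : IsM11 G) : ¬ IsMinimalSimple G := by
  have := hG.1
  obtain ⟨ρ, s, hρ, -, hs⟩ := M11.hasModel hG.2
  have hw := rep_prod ρ s M11.std hs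
  obtain ⟨a, ha⟩ : ∃ a, Rep (ρ a) (evalW M11.std [2, 2]) := ⟨_, hw _⟩
  obtain ⟨b, hb⟩ : ∃ b, Rep (ρ b) (evalW M11.std [1, 0]) := ⟨_, hw _⟩
  have h1 := Rep.map_one ρ
  refine not_isMinimalSimple_of_pow ((MulAction.stabilizer _ (11 : Fin 12)).comap ρ)
    (fun h => ?_) (a := a) (b := b) (Fin.ext ((ha 11).trans (by decide +kernel)))
    (Fin.ext ((hb 11).trans (by decide +kernel))) (l := 2) (m := 5) (n := 11)
    ((ha.map_pow 2).map_eq hρ h1 (by decide +kernel))
    ((hb.map_pow 5).map_eq hρ h1 (by decide +kernel))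
    (((ha.map_mul hb).map_pow 11).map_eq hρ h1 (by decide +kernel)) (by norm_num) (by norm_num)
    (by norm_num) (ha.map_ne h1 (by decide +kernel))
  have h2 : ρ (s 2) 11 = 11 := h.ge (mem_top (s 2))
  exact absurd ((hs 2 11).symm.trans (congrArg Fin.val h2)) (by decide +kernel)

end CL.NGr
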