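import Cfsg.Agent.NGr.CorTriple
import Cfsg.Agent.PSL2.Maximal
import Cfsg.Agent.Unitary.Center
import Cfsg.Agent.S0281

/-! `PSU₃(q)`, `q ≥ 4`, is not an `N`-group. -/

set_option autoImplicit false
open Cfsg Matrix Subgroup
open scoped MatrixGroups

namespace CL.NGr

theorem not_isNGroup_of_commute {G H : Type*} [Group G] [Finite G] [Group H] (f : H →* G)
    (hf : Function.Injective f) (hH : ¬ Group.IsSolvable H) {z : G} (hz : z ≠ 1)
    (hc : ∀ h, Commute z (f h)) : ¬ IsNGroup G := fun hN => by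
  have h1 : orderOf z ≠ 1 := fun h => hz (orderOf_eq_one_iff.1 h)
  have hp := Nat.minFac_prime h1
  have := Fact.mk hp
  have hw := orderOf_pow_orderOf_div (orderOf_pos z).ne' (Nat.minFac_dvd (orderOf z))
  set w := z ^ (orderOf z / (orderOf z).minFac)
  have hs := hN _ ⟨_, zpowers w, hp, IsPGroup.of_card (n := 1) (by rw [Nat.card_zpowers, hw, pow_one]),
    fun h => hp.one_lt.ne' (by rw [← hw, zpowers_eq_bot.1 h, orderOf_one]), rfl⟩
  have hm : ∀ h, f h ∈ normalizer (zpowers w : Set G) := fun h => by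
    refine centralizer_le_normalizer _ ?_
    rintro _ ⟨k, rfl⟩
    exact (((hc h).pow_left _).zpow_left k).eq
  exact hH (Group.isSolvable_of_isSolvable_injective (f := f.codRestrict _ hm)
    fun a b hab => hf (congrArg Subtype.val hab))

theorem IsMinimalSimple.isNGroup {G : Type*} [Group G] [Finite G] (h : IsMinimalSimple G) :
    IsNGroup G := by
  rintro _ ⟨p, T, hp, hT, h1, rfl⟩
  refine h.2.2 _ fun hN => ?_
  have := h.1
  have := Fact.mk hp
  obtain rfl := (normalizer_eq_top_iff.1 hN).eq_bot_or_eq_top.resolve_left h1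
  have := (hT.of_equiv topEquiv).isNilpotent
  exact h.2.1 ⟨⟨IsSimpleGroup.comm_iff_isSolvable.2 inferInstance⟩⟩

theorem IsNGroup.twoLocal {G : Type*} [Group G] (h : IsNGroup G) (N : Subgroup G)
    (hN : IsTwoLocal N) : Group.IsSolvable N := by
  obtain ⟨T, h1, h2, h3⟩ := hN
  exact h N ⟨2, T, Nat.prime_two, h1, h2, h3⟩

theorem isNGroup_of_mulEquiv {G H : Type*} [Group G] [Group H] (e : G ≃* H) (h : IsNGroup G) :
    IsNGroup H := by
  rintro _ ⟨p, T, hp, hT, h1, rfl⟩
  have := h _ ⟨p, T.map e.symm.toMonoidHom, hp, hT.map _,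
    fun h => h1 ((map_eq_bot_iff_of_injective _ e.symm.injective).1 h), rfl⟩
  refine Group.isSolvable_of_isSolvable_injective
    (f := (e.symm.toMonoidHom.comp (normalizer (T : Set H)).subtype).codRestrict
      (normalizer (T.map e.symm.toMonoidHom : Set G)) fun x =>
        le_normalizer_map _ (mem_map_of_mem _ x.2)) fun a b hab => ?_
  exact Subtype.ext (e.symm.injective (congrArg Subtype.val hab))

variable {F : Type*} [Field F]

/-- The block embedding `SL₂ → SL₃`. -/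
def slBlock : SL(2, F) →* SL(3, F) where
  toFun g := ⟨!![g 0 0, g 0 1, 0; g 1 0, g 1 1, 0; 0, 0, 1], by
    have := g.det_coe
    rw [det_fin_two] at this
    rw [det_fin_three]; simpa using this⟩
  map_one' := by
    ext i j
    fin_cases i <;> fin_cases j <;> simp
  map_mul' g h := by
    ext i j
    change _ = (!![g 0 0, g 0 1, 0; g 1 0, g 1 1, 0; 0, 0, 1] *
      !![h 0 0, h 0 1, 0; h 1 0, h 1 1, 0; 0, 0, 1]) i j
    fin_cases i <;> fin_cases j <;> simp [Matrix.mul_apply, Fin.sum_univ_succ]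

theorem coe_slBlock (g : SL(2, F)) : (slBlock g : Matrix (Fin 3) (Fin 3) F) =
    !![g 0 0, g 0 1, 0; g 1 0, g 1 1, 0; 0, 0, 1] := rfl

theorem slBlock_mem_SU {q : ℕ} {g : SL(2, F)} (hg : g ∈ SU 2 F q) : slBlock g ∈ SU 3 F q := by
  rw [CL.Herm.mem_SU_iff'] at hg ⊢
  intro u v
  have := hg ![u 0, u 1] ![v 0, v 1]
  simp only [hermForm, coe_slBlock, mulVec, dotProduct, Fin.sum_univ_succ] at this ⊢
  simp at this ⊢
  linear_combination this

/-- The cyclic permutation matrix. -/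
def cyc3 : SL(3, F) := ⟨!![0, 0, 1; 1, 0, 0; 0, 1, 0], by rw [det_fin_three]; simp⟩

theorem cyc3_mem_SU (q : ℕ) : (cyc3 : SL(3, F)) ∈ SU 3 F q := by
  rw [CL.Herm.mem_SU_iff']
  intro u v
  simp [hermForm, cyc3, mulVec, dotProduct, Fin.sum_univ_succ]
  ring

theorem entries_of_mem_center {q : ℕ} {g : SU 3 F q} (hg : g ∈ center (SU 3 F q)) :
    g.1 0 0 = g.1 2 2 ∧ g.1 1 1 = g.1 2 2 ∧ g.1 0 1 = g.1 1 2 ∧ g.1 1 0 = g.1 2 1 := by
  have h : !![0, 0, 1; 1, 0, 0; 0, 1, 0] * g.1.1 = g.1.1 * !![0, 0, 1; 1, 0, 0; 0, 1, 0] :=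
    congrArg (fun x : SU 3 F q => (x.1 : Matrix (Fin 3) (Fin 3) F))
      (mem_center_iff.1 hg ⟨cyc3, cyc3_mem_SU q⟩)
  have e := fun i j => congrFun (congrFun h i) j
  have e1 := e 0 2
  have e2 := e 2 1
  have e3 := e 1 1
  have e4 := e 2 0
  simp [Matrix.mul_apply, vecMul, dotProduct, Fin.sum_univ_succ] at e1 e2 e3 e4
  exact ⟨e1.symm, e2, e3, e4⟩

/-- The embedding `SU₂(q) → PSU₃(q)`. -/
def suBlock (F : Type*) [Field F] (q : ℕ) : SU 2 F q →* PSU 3 F q :=
  (QuotientGroup.mk' _).comp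
    ((slBlock.comp (SU 2 F q).subtype).codRestrict _ fun g => slBlock_mem_SU g.2)

theorem suBlock_injective (q : ℕ) : Function.Injective (suBlock F q) := by
  refine (injective_iff_map_eq_one _).2 fun g hg => ?_
  obtain ⟨h1, h2, h3, h4⟩ := entries_of_mem_center ((QuotientGroup.eq_one_iff _).1 hg)
  ext i j
  fin_cases i <;> fin_cases j
  exacts [h1, h3, h4, h2]

theorem not_isNGroup_PSU [Fintype F] {q : ℕ} (hF : Fintype.card F = q ^ 2) (K : Type*) [Field K]
    [Fintype K] (hK : Fintype.card K = q) (hq : 4 ≤ q) : ¬ IsNGroup (PSU 3 F q) := by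
  obtain ⟨σ, hσ⟩ := CL.Herm.exists_conj' hF
  obtain ⟨e⟩ := Cfsg.Agent.S0281.result hF hK
  have hns : ¬ Group.IsSolvable (SU 2 F q) := fun h => by
    have : Group.IsSolvable SL(2, K) :=
      Group.isSolvable_of_surjective (f := e.toMonoidHom) e.surjective
    exact CL.PSL2.not_isSolvable_PSL (F := K) (by omega) inferInstance
  obtain ⟨l, hl, hl3⟩ : ∃ l ∈ rootsOfUnity (q + 1) F, l ∉ rootsOfUnity 3 F := by
    by_contra h
    push Not at h
    have h1 := card_le_of_le (show rootsOfUnity (q + 1) F ≤ rootsOfUnity 3 F from h)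
    have h2 := card_rootsOfUnity F 3
    rw [hσ.card_rootsOfUnity_of_dvd dvd_rfl] at h1
    omega
  rw [mem_rootsOfUnity'] at hl hl3
  let z : SL(3, F) := ⟨!![l, 0, 0; 0, l, 0; 0, 0, (l⁻¹ : F) ^ 2], by
    rw [det_fin_three]; simp; field_simp⟩
  have hz : z ∈ SU 3 F q := by
    rw [CL.Herm.mem_SU_iff']
    intro u v
    have h2 : ((l⁻¹ : F) ^ 2) ^ (q + 1) = 1 := by
      rw [← pow_mul, mul_comm, pow_mul, inv_pow, hl]; simp
    simp only [hermForm, z, mulVec, dotProduct, Fin.sum_univ_succ]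
    simp only [of_apply, cons_val', cons_val_zero, cons_val_fin_one, cons_val_succ, zero_mul,
      Finset.univ_eq_empty, Finset.sum_empty, add_zero, zero_add, mul_pow]
    linear_combination (u 0 * v 0 ^ q + u (Fin.succ 0) * v (Fin.succ 0) ^ q) * hl +
      u (Fin.succ (Fin.succ 0)) * v (Fin.succ (Fin.succ 0)) ^ q * h2
  refine not_isNGroup_of_commute (suBlock F q) (suBlock_injective q) hns
    (z := QuotientGroup.mk ⟨z, hz⟩) (fun h => hl3 ?_) fun g => ?_
  · have h1 : (l : F) = (l⁻¹ : F) ^ 2 :=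
      (entries_of_mem_center ((QuotientGroup.eq_one_iff _).1 h)).1
    have := l.ne_zero
    field_simp at h1
    exact h1
  · refine Commute.map (f := QuotientGroup.mk' _) (Subtype.ext ?_)
    ext i j
    change (z.1 * (slBlock g.1).1) i j = ((slBlock g.1).1 * z.1) i j
    fin_cases i <;> fin_cases j <;>
      simp [z, coe_slBlock, Matrix.mul_apply, Fin.sum_univ_succ, mul_comm]

theorem not_isNGroup_PSU_two_pow [Fintype F] {n : ℕ} (hn : 2 ≤ n)
    (hF : Fintype.card F = (2 ^ n) ^ 2) : ¬ IsNGroup (PSU 3 F (2 ^ n)) := by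
  have : Fact (Nat.Prime 2) := ⟨Nat.prime_two⟩
  let _ : Fintype (GaloisField 2 n) := Fintype.ofFinite _
  exact not_isNGroup_PSU hF (GaloisField 2 n)
    (by rw [← Nat.card_eq_fintype_card, GaloisField.card 2 n (by omega)])
    (Nat.pow_le_pow_right (n := 2) (by norm_num) hn)

end CL.NGr
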