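import Cfsg.Agent.NGr.CorSz
import Cfsg.Agent.NGr.CorPSL
import Cfsg.Agent.NGr.CorU3
import Cfsg.Agent.NGr.CorSmall
import Cfsg.Agent.S0810
import Cfsg.Agent.S0252
import Cfsg.Agent.S0253

/-! From the list of simple groups with solvable 2-local subgroups to the minimal simple groups. -/

set_option autoImplicit false
open Cfsg Matrix CL.Sz
open scoped MatrixGroups

namespace CL.NGr

/-- The list of the simple groups all of whose 2-local subgroups are solvable. -/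
def NList (G : Type*) [Group G] : Prop :=
  (∃ (F : Type) (_ : Field F) (_ : Fintype F), 4 ≤ Fintype.card F ∧
      Nonempty (G ≃* Matrix.ProjectiveSpecialLinearGroup (Fin 2) F)) ∨
    Lie.IsoSuzuki G ∨
    (∃ (F : Type) (_ : Field F) (_ : Fintype F) (n : ℕ), 2 ≤ n ∧ Fintype.card F = (2 ^ n) ^ 2 ∧
      Nonempty (G ≃* PSU 3 F (2 ^ n))) ∨
    (∃ (F : Type) (_ : Field F) (_ : Fintype F), Fintype.card F = 3 ∧
      Nonempty (G ≃* Matrix.ProjectiveSpecialLinearGroup (Fin 3) F)) ∨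
    (∃ (F : Type) (_ : Field F) (_ : Fintype F), Fintype.card F = 9 ∧
      Nonempty (G ≃* PSU 3 F 3)) ∨
    Nonempty (G ≃* alternatingGroup (Fin 7)) ∨ IsM11 G ∨
    (IsTits G ∧ ¬ PRankLE 2 4 G ∧ ∃ H : Subgroup G, H ≠ ⊤ ∧ ¬ Group.IsSolvable H)

/-- The list of the minimal simple groups. -/
def MinList (G : Type*) [Group G] : Prop :=
  (∃ (F : Type) (_ : Field F) (_ : Fintype F), 4 ≤ Fintype.card F ∧ IsMinimalSimple PSL(2, F) ∧
      Nonempty (G ≃* PSL(2, F))) ∨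
    (∃ (F : Type) (_ : Field F) (_ : Fintype F) (m : ℕ), Ctx F m ∧ (2 * m + 1).Prime ∧
      Nonempty (G ≃* Sz F m)) ∨
    ∃ (F : Type) (_ : Field F) (_ : Fintype F), Fintype.card F = 3 ∧ Nonempty (G ≃* PSL(3, F))

variable {G : Type*} [Group G]

theorem NList.minList [Finite G] (h : NList G) (hG : IsMinimalSimple G) : MinList G := by
  rcases h with ⟨F, _, _, h, ⟨e⟩⟩ | h | ⟨F, _, _, n, hn, h, ⟨e⟩⟩ | h | ⟨F, _, _, h, ⟨e⟩⟩ | ⟨⟨e⟩⟩ |
    h | ⟨-, -, H, h1, h2⟩
  · exact Or.inl ⟨F, _, _, h, isMinimalSimple_of_mulEquiv e hG, ⟨e⟩⟩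
  · obtain ⟨F, _, _, m, c, ⟨e⟩⟩ := exists_ctx_of_isoSuzuki h
    exact Or.inr (Or.inl ⟨F, _, _, m, c,
      sz_prime_of_isMinimalSimple c (isMinimalSimple_of_mulEquiv e hG), ⟨e⟩⟩)
  · exact absurd (isNGroup_of_mulEquiv e (IsMinimalSimple.isNGroup hG))
      (not_isNGroup_PSU_two_pow hn h)
  · exact Or.inr (Or.inr h)
  · exact absurd (isMinimalSimple_of_mulEquiv e hG) (not_isMinimalSimple_U33 h)
  · exact absurd (isMinimalSimple_of_mulEquiv e hG) not_isMinimalSimple_A7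
  · exact absurd hG (not_isMinimalSimple_M11 h)
  · exact absurd (hG.2.2 H h1) h2

theorem MinList.hasTriple (h : MinList G) : HasTriple G := by
  rcases h with ⟨F, _, _, h, -, ⟨e⟩⟩ | ⟨F, _, _, m, c, -, ⟨e⟩⟩ | ⟨F, _, _, h, ⟨e⟩⟩
  · exact (psl2_hasTriple h).of_mulEquiv e
  · exact (sz_hasTriple c).of_mulEquiv e
  · exact (psl33_hasTriple h).of_mulEquiv e

theorem three_pow_eq_two_pow_add_one {b c : ℕ} (h : 3 ^ b = 2 ^ c + 1) : c = 1 ∨ c = 3 := by
  rcases Nat.even_or_odd' b with ⟨k, rfl | rfl⟩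
  · obtain ⟨x, hx⟩ : ∃ x, 3 ^ k = x + 1 := ⟨3 ^ k - 1, by
      have := Nat.one_le_pow k 3 (by norm_num); omega⟩
    have h1 : x * (x + 2) = 2 ^ c := by
      rw [mul_comm, pow_mul, hx] at h; nlinarith
    obtain ⟨i, -, rfl⟩ := (Nat.dvd_prime_pow Nat.prime_two).1 (h1 ▸ dvd_mul_right x (x + 2))
    obtain ⟨j, -, hj⟩ := (Nat.dvd_prime_pow Nat.prime_two).1 (h1 ▸ dvd_mul_left (2 ^ i + 2) (2 ^ i))
    have hi : i = 1 := by
      rcases i with _ | _ | i
      · rcases j with _ | _ | j <;> simp [pow_succ] at hj; omega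
      · rfl
      · have := Nat.two_pow_pos i
        rcases j with _ | _ | j <;> rw [pow_succ, pow_succ] at hj <;>
          simp only [pow_succ, pow_zero, zero_add] at hj <;> omega
    subst hi
    right
    exact (Nat.pow_right_injective (le_refl 2) (h1.symm.trans (by norm_num : _ = 2 ^ 3)))
  · left
    have h1 : 3 ^ (2 * k) % 4 = 1 := by rw [pow_mul, Nat.pow_mod]; simp
    rcases c with _ | _ | c
    · simp only [pow_succ, pow_zero] at h; omega
    · rfl
    · simp only [pow_succ] at h; omega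

theorem three_pow_mod_eight (b : ℕ) : 3 ^ b % 8 = 1 ∨ 3 ^ b % 8 = 3 := by
  induction b with
  | zero => simp
  | succ b ih => rw [pow_succ]; omega

theorem two_pow_eq_three_pow_add_one {b c : ℕ} (h : 2 ^ c = 3 ^ b + 1) : c ≤ 2 := by
  have := three_pow_mod_eight b
  rcases c with _ | _ | _ | c
  iterate 3 omega
  simp only [pow_succ] at h; omega

theorem exists_eq_two_pow_mul_three_pow {n : ℕ} (hn : n ≠ 0)
    (h : ∀ r, r.Prime → r ∣ n → r = 2 ∨ r = 3) : ∃ i j, n = 2 ^ i * 3 ^ j := by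
  obtain ⟨i, a, ha, rfl⟩ := Nat.exists_eq_pow_mul_and_not_dvd hn 2 (by norm_num)
  obtain ⟨j, t, ht, rfl⟩ := Nat.exists_eq_pow_mul_and_not_dvd (right_ne_zero_of_mul hn) 3
    (by norm_num)
  by_cases h1 : t = 1
  · exact ⟨i, j, by rw [h1, mul_one]⟩
  have hd := Nat.minFac_dvd t
  rcases h _ (Nat.minFac_prime h1) ((hd.mul_left _).mul_left _) with h2 | h2
  · exact absurd ((h2 ▸ hd).mul_left _) ha
  · exact absurd (h2 ▸ hd) ht

theorem eq_of_consecutive_smooth {a : ℕ} (ha : a ≠ 0)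
    (h : ∀ r, r.Prime → r ∣ a * (a + 1) → r = 2 ∨ r = 3) : a ≤ 3 ∨ a = 8 := by
  obtain ⟨i, j, h1⟩ := exists_eq_two_pow_mul_three_pow ha fun r hr hd => h r hr (hd.mul_right _)
  obtain ⟨k, l, h2⟩ := exists_eq_two_pow_mul_three_pow (n := a + 1) (Nat.succ_ne_zero a)
    fun r hr hd => h r hr (hd.mul_left _)
  have e2 : i = 0 ∨ k = 0 := by
    by_contra hc
    push Not at hc
    have d1 : 2 ∣ a := h1 ▸ (dvd_pow_self 2 hc.1).mul_right _
    have d2 : 2 ∣ a + 1 := h2 ▸ (dvd_pow_self 2 hc.2).mul_right _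
    omega
  have e3 : j = 0 ∨ l = 0 := by
    by_contra hc
    push Not at hc
    have d1 : 3 ∣ a := h1 ▸ (dvd_pow_self 3 hc.1).mul_left _
    have d2 : 3 ∣ a + 1 := h2 ▸ (dvd_pow_self 3 hc.2).mul_left _
    omega
  rcases e2 with rfl | rfl <;> rcases e3 with rfl | rfl <;>
    simp only [pow_zero, mul_one, one_mul] at h1 h2
  · omega
  · have h3 := two_pow_eq_three_pow_add_one (h2.symm.trans (by rw [h1]))
    have := Nat.pow_le_pow_right (show 0 < 2 by norm_num) h3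
    omega
  · rcases three_pow_eq_two_pow_add_one (h2.symm.trans (by rw [h1])) with rfl | rfl <;> omega
  · omega

theorem psl2_card_of_three_primes {q N : ℕ} (hN : Nat.gcd 2 (q - 1) * N = q * (q ^ 2 - 1))
    (h3 : N.primeFactors.card ≤ 3)
    (hq : (∃ r : ℕ, r.Prime ∧ q = 2 ^ r) ∨ (∃ r : ℕ, r.Prime ∧ r ≠ 2 ∧ q = 3 ^ r) ∨
      (q.Prime ∧ 5 < q ∧ (q % 5 = 2 ∨ q % 5 = 3)) ∨ q = 5) :
    q = 4 ∨ q = 5 ∨ q = 7 ∨ q = 8 ∨ q = 17 := by
  rw [CL.PSL2.sq_sub_one_eq] at hN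
  rcases hq with ⟨r, hr, hq⟩ | ⟨r, hr, hr2, hq⟩ | ⟨hq, h5, -⟩ | rfl
  · rcases hr.eq_two_or_odd' with rfl | ⟨k, rfl⟩
    · omega
    have h1 : 2 ^ (2 * k) % 3 = 1 := by rw [pow_mul, Nat.pow_mod]; simp
    have hk : k ≠ 0 := by rintro rfl; exact absurd hr (by norm_num)
    have h4 : 4 ≤ 2 ^ (2 * k) := Nat.pow_le_pow_right (n := 2) (i := 2) (by norm_num) (by omega)
    rw [pow_succ] at hq
    obtain ⟨b, t, ht, hbt⟩ := Nat.exists_eq_pow_mul_and_not_dvd (n := q + 1) (by omega) 3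
      (by norm_num)
    by_cases ht1 : t = 1
    · rw [ht1, mul_one, hq, ← pow_succ] at hbt
      rcases three_pow_eq_two_pow_add_one hbt.symm with h | h
      · omega
      · obtain rfl : k = 1 := by omega
        omega
    exfalso
    have hc := coprime_sub_add_div (q := q) (by omega)
    rw [CL.PSL2.gcd_two_of_even ⟨2 ^ (2 * k), by omega⟩ (by omega)] at hN hc
    rw [Nat.div_one, Nat.div_one] at hc
    rw [one_mul] at hN
    have d3 : 3 ∣ q + 1 := by omega
    have dt : t ∣ q + 1 := hbt ▸ dvd_mul_left _ _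
    have o1 : Nat.Coprime 2 (q + 1) := Nat.coprime_two_left.2 ⟨2 ^ (2 * k), by omega⟩
    have := four_le_card_primeFactors (a := 2) (b := q - 1) (c := 3) (d := t) (n := N)
      (by rw [hN]; exact mul_ne_zero (by omega) (mul_ne_zero (by omega) (by omega))) (by norm_num)
      (by omega) (by norm_num) ht1 (Nat.coprime_two_left.2 ⟨2 ^ (2 * k) - 1, by omega⟩)
      (by norm_num) (o1.coprime_dvd_right dt) (hc.coprime_dvd_right d3) (hc.coprime_dvd_right dt)
      ((Nat.Prime.coprime_iff_not_dvd Nat.prime_three).2 ht)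
      (hN ▸ Dvd.dvd.mul_right (by omega) _) (hN ▸ (dvd_mul_left _ _).mul_left _)
      (hN ▸ (d3.mul_right _).mul_left _) (hN ▸ (dt.mul_right _).mul_left _)
    omega
  · exfalso
    obtain ⟨k, rfl⟩ := hr.odd_of_ne_two hr2
    have h1 : 3 ^ (2 * k) % 8 = 1 := by rw [pow_mul, Nat.pow_mod]; simp
    have hk : k ≠ 0 := by rintro rfl; exact absurd hr (by norm_num)
    have h4 : 9 ≤ 3 ^ (2 * k) := Nat.pow_le_pow_right (n := 3) (i := 2) (by norm_num) (by omega)
    rw [pow_succ] at hq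
    obtain ⟨s, hs⟩ : ∃ s, q = 24 * s + 3 := ⟨q / 24, by omega⟩
    have hs0 : s ≠ 0 := by omega
    rw [CL.PSL2.gcd_two_of_odd ⟨12 * s + 1, by omega⟩, show q - 1 = 24 * s + 2 by omega, hs] at hN
    have hN' : N = 2 * 3 * (12 * s + 1) * (6 * s + 1) * (2 * (8 * s + 1)) := by nlinarith
    have c1 : (12 * s + 1).Coprime (6 * s + 1) := by
      rw [show 12 * s + 1 = 6 * s + (6 * s + 1) by ring, Nat.coprime_add_self_left]; simp
    have c3 : ∀ x, x % 3 = 1 → Nat.Coprime 3 x := fun x hx =>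
      (Nat.Prime.coprime_iff_not_dvd Nat.prime_three).2 (by omega)
    have := four_le_card_primeFactors (a := 2) (b := 3) (c := 12 * s + 1) (d := 6 * s + 1) (n := N)
      (by rw [hN']; positivity) (by norm_num) (by norm_num) (by omega) (by omega) (by norm_num)
      (Nat.coprime_two_left.2 ⟨6 * s, by ring⟩) (Nat.coprime_two_left.2 ⟨3 * s, by ring⟩)
      (c3 _ (by omega)) (c3 _ (by omega)) c1
      (hN' ▸ (((dvd_mul_right _ _).mul_right _).mul_right _).mul_right _)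
      (hN' ▸ (((dvd_mul_left _ _).mul_right _).mul_right _).mul_right _)
      (hN' ▸ ((dvd_mul_left _ _).mul_right _).mul_right _) (hN' ▸ (dvd_mul_left _ _).mul_right _)
    omega
  · obtain ⟨a, rfl⟩ := hq.odd_of_ne_two (by omega)
    rw [CL.PSL2.gcd_two_of_odd ⟨a, rfl⟩, show 2 * a + 1 - 1 = 2 * a by omega] at hN
    have hN' : N = 2 * (2 * a + 1) * (a * (a + 1)) := by nlinarith
    have h3' : ¬ 3 ∣ 2 * a + 1 := fun h => by
      have := (Nat.prime_dvd_prime_iff_eq Nat.prime_three hq).1 h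
      omega
    have d3 : 3 ∣ a * (a + 1) := by
      rw [Nat.prime_three.dvd_mul]
      rcases (by omega : a % 3 = 0 ∨ a % 3 = 1 ∨ a % 3 = 2) with h | h | h <;> omega
    suffices key : ∀ r, r.Prime → r ∣ a * (a + 1) → r = 2 ∨ r = 3 by
      have := eq_of_consecutive_smooth (a := a) (by omega) key
      omega
    intro r hr hd
    by_contra hc
    push Not at hc
    have hrq : 2 * a + 1 ≠ r := by
      rintro rfl
      rcases hq.dvd_mul.1 hd with h | h
      · have := Nat.le_of_dvd (by omega) h; omega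
      · have := Nat.le_of_dvd (by omega) h; omega
    have := four_le_card_primeFactors (a := 2) (b := 3) (c := 2 * a + 1) (d := r) (n := N)
      (by rw [hN']; have : a ≠ 0 := by omega
          positivity) (by norm_num) (by norm_num) (by omega) hr.one_lt.ne' (by norm_num)
      (Nat.coprime_two_left.2 ⟨a, rfl⟩) ((Nat.coprime_primes Nat.prime_two hr).2 hc.1.symm)
      ((Nat.Prime.coprime_iff_not_dvd Nat.prime_three).2 h3')
      ((Nat.coprime_primes Nat.prime_three hr).2 hc.2.symm) ((Nat.coprime_primes hq hr).2 hrq)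
      (hN' ▸ (dvd_mul_right _ _).mul_right _) (hN' ▸ d3.mul_left _)
      (hN' ▸ (dvd_mul_left _ _).mul_right _) (hN' ▸ hd.mul_left _)
    omega
  · omega

theorem MinList.three_primes (h : MinList G) (h3 : (Nat.card G).primeFactors.card ≤ 3) :
    ∃ (F : Type) (_ : Field F) (_ : Fintype F),
      ((Fintype.card F = 5 ∨ Fintype.card F = 7 ∨ Fintype.card F = 8 ∨ Fintype.card F = 17) ∧
          Nonempty (G ≃* PSL(2, F))) ∨
        (Fintype.card F = 3 ∧ Nonempty (G ≃* PSL(3, F))) := by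
  rcases h with ⟨F, _, _, h, hm, ⟨e⟩⟩ | ⟨F, _, _, m, c, -, ⟨e⟩⟩ | ⟨F, _, _, h⟩
  · rw [Nat.card_congr e.toEquiv] at h3
    rcases psl2_card_of_three_primes CL.PSL2.card_PSL h3 ((Cfsg.Agent.S0810.result rfl).1 hm) with
      h4 | h4
    · have : Fact (Nat.Prime 5) := ⟨by norm_num⟩
      obtain ⟨e1⟩ := Cfsg.Agent.S0252.result h4
      obtain ⟨e2⟩ := Cfsg.Agent.S0253.result (F := ZMod 5) (by simp)
      exact ⟨ZMod 5, inferInstance, inferInstance, Or.inl ⟨Or.inl (by simp), ⟨e.trans (e1.trans e2.symm)⟩⟩⟩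
    · exact ⟨F, _, _, Or.inl ⟨h4, ⟨e⟩⟩⟩
  · have := suzuki_order_primeFactors c.hm
    rw [Nat.card_congr e.toEquiv, c.card_Sz, c.hF] at h3
    omega
  · exact ⟨F, _, _, Or.inr h⟩

end CL.NGr
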