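import Cfsg.Agent.NGr.CorTriple
import Cfsg.Agent.Sz.Tori2
import Cfsg.Agent.Sz.Bridge
import Cfsg.Agent.Sz.Sylow2
import Cfsg.Agent.PSL2.Subfield

/-! Suzuki groups: coprime triples, subfield subgroups, prime divisors of the order. -/

set_option autoImplicit false
open Cfsg Matrix CL.Sz

namespace CL.NGr

variable {F : Type*} [Field F] [Fintype F] {m : ℕ}

theorem sz_exists_der (c : Ctx F m) : ∃ (a b : F) (g : Sz F m) (l : Fˣ), l ≠ 1 ∧
    Ctx.IsDer (c.U a b * (g * c.H l * g⁻¹)) := by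
  obtain ⟨l, hl⟩ := c.exists_unit_ne_one
  have hne : pt m (0 : F) 0 ≠ pt m 0 1 := fun h => zero_ne_one (pt_inj.1 h).2
  obtain ⟨g, hg1, hg2⟩ := c.exists_smul_pair hne
  set h := g * c.H l * g⁻¹ with hh
  have h1 : h • pt m (0 : F) 0 = pt m 0 0 := by
    rw [← hg1, hh, mul_smul, mul_smul, inv_smul_smul, c.H_smul_inf]
  have h2 : h • pt m (0 : F) 1 = pt m 0 1 := by
    rw [← hg2, hh, mul_smul, mul_smul, inv_smul_smul, c.H_smul_zero]
  have h3 : h • inf F m ≠ inf F m := fun h3 => hl (c.H_eq_one.1 (by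
    have := c.eq_one_of_fix_three hne (pt_ne_inf m 0 1) (pt_ne_inf m 0 0) h1 h2 h3
    rwa [hh, conj_eq_one_iff] at this))
  by_contra hcon
  have key : ∀ u : F × F, ∃ z : suzukiOvoid F m, (c.U u.1 u.2 * h) • z = z ∧ z ≠ pt m 0 1 := by
    rintro ⟨a, b⟩
    by_cases hab : a = 0 ∧ b = 0
    · obtain ⟨rfl, rfl⟩ := hab
      exact ⟨pt m 0 0, by rw [c.U_zero, one_mul, h1], hne⟩
    · have : ¬ Ctx.IsDer (c.U a b * h) := fun hd => hcon ⟨a, b, g, l, hl, hd⟩
      simp only [Ctx.IsDer, not_forall, not_not] at this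
      obtain ⟨z, hz⟩ := this
      refine ⟨z, hz, ?_⟩
      rintro rfl
      rw [mul_smul, h2] at hz
      exact hab (c.U_fix_pt hz)
  choose φ hφ hφ2 using key
  have hinf : ∀ u, φ u ≠ inf F m := fun u hu => by
    have := hφ u
    rw [hu, mul_smul, smul_eq_iff_eq_inv_smul, c.U_inv, c.U_smul_inf] at this
    exact h3 this
  have hinj : Function.Injective φ := fun u v huv => by
    have e1 := hφ u
    have e2 := hφ v
    rw [← huv, mul_smul] at e2
    rw [mul_smul] at e1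
    have hz : h • φ u ≠ inf F m := fun hz => by
      rw [hz, c.U_smul_inf] at e1
      exact hinf u e1.symm
    obtain ⟨x, y, hxy⟩ := exists_pt_of_ne_inf hz
    have e3 : ((c.U u.1 u.2)⁻¹ * c.U v.1 v.2) • pt m x y = pt m x y := by
      rw [← hxy, mul_smul, e2, inv_smul_eq_iff, e1]
    rw [c.U_inv, c.U_mul_U] at e3
    have e4 := c.U_eq_one.2 (c.U_fix_pt e3)
    rw [← c.U_mul_U, ← c.U_inv, inv_mul_eq_one, c.U_inj] at e4
    exact Prod.ext e4.1 e4.2
  have := finite_ovoid (F := F) m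
  have hsub : Set.range φ ⊆ ({inf F m, pt m 0 1} : Set (suzukiOvoid F m))ᶜ := by
    rintro _ ⟨u, rfl⟩
    simp [hinf u, hφ2 u]
  have e1 := Set.ncard_le_ncard hsub
  rw [Set.ncard_range_of_injective hinj, Nat.card_prod, Nat.card_eq_fintype_card] at e1
  have e2 := Set.ncard_add_ncard_compl ({inf F m, pt m 0 1} : Set (suzukiOvoid F m))
  rw [Set.ncard_pair (inf_ne_pt m 0 1), card_ovoid, sq] at e2
  omega

theorem sz_hasTriple (c : Ctx F m) : HasTriple (Sz F m) := by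
  obtain ⟨a, b, g, l, hl, hd⟩ := sz_exists_der c
  have := finite_ovoid (F := F) m
  have h1 : (g * c.H l * g⁻¹) ^ (Fintype.card F - 1) = 1 := by
    rw [conj_pow, conj_eq_one_iff, ← c.card_Hg]
    exact congrArg Subtype.val (pow_card_eq_one' (x := (⟨_, c.H_mem_Hg l⟩ : c.Hg)))
  have h2 : (c.U a b * (g * c.H l * g⁻¹))⁻¹ ^ (Fintype.card F ^ 2 + 1) = 1 := by
    obtain ⟨k, hk⟩ := c.card_centralizer_dvd hd
    rw [inv_pow, inv_eq_one, hk, pow_mul]
    have := congrArg Subtype.val (pow_card_eq_one' (x := (⟨_,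
      Subgroup.mem_centralizer_singleton_iff.2 rfl⟩ :
        Subgroup.centralizer ({c.U a b * (g * c.H l * g⁻¹)} : Set (Sz F m)))))
    simp only [SubmonoidClass.mk_pow, OneMemClass.coe_one] at this
    rw [this, one_pow]
  have h4 : ∀ n : ℕ, Odd n → n.Coprime 4 := fun n hn =>
    (Nat.Coprime.pow_right 2 (Nat.coprime_two_right.2 hn))
  refine hasTriple_of_pow h1 h2 (c.U_pow_four a b) ?_ (h4 _ c.odd_sq_add_one) (h4 _ c.odd_sub_one)
    ?_ ?_
  · exact (c.coprime_stab.coprime_dvd_right (dvd_mul_left _ _)).symm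
  · group
  · rwa [Ne, conj_eq_one_iff, c.H_eq_one]

theorem sz_not_isSolvable (c : Ctx F m) : ¬ Group.IsSolvable (Sz F m) :=
  (sz_hasTriple c).not_isSolvable

theorem sz_exists_hom {K : Type*} [Field K] [Fintype K] {k : ℕ} (c : Ctx F m) (d : Ctx K k)
    (φ : K →+* F) (h : ∀ x, φ (d.θ x) = c.θ (φ x)) :
    ∃ f : Sz K k →* Sz F m, Function.Injective f := by
  let f : Sz K k →* SpecialLinearGroup (Fin 4) F :=
    (SpecialLinearGroup.map φ).comp (Sz K k).subtype
  have hfo : ∀ a b, φ (fo k a b) = fo m (φ a) (φ b) := fun a b => by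
    rw [d.fo_eq, c.fo_eq]; simp [h]
  have htop : (Sz F m).comap f = ⊤ := by
    refine d.eq_top_of_gens (fun a b => ?_) (fun l => ?_) ?_
    · have : f (d.U a b) = c.Us (φ a) (φ b) := by
        ext i j
        change φ (d.Um a b i j) = c.Um (φ a) (φ b) i j
        fin_cases i <;> fin_cases j <;> simp [Ctx.Um, h, hfo]
      rw [Subgroup.mem_comap, this]; exact c.Us_mem _ _
    · have : f (d.H l) = c.Hs (Units.map φ.toMonoidHom l) := by
        ext i j
        change φ (d.Hm l i j) = c.Hm (Units.map φ.toMonoidHom l) i j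
        fin_cases i <;> fin_cases j <;> simp [Ctx.Hm, h]
      rw [Subgroup.mem_comap, this]; exact c.Hs_mem _
    · have : f d.W = Ctx.Ws F := by
        ext i j
        change φ (suzukiForm K i j) = suzukiForm F i j
        fin_cases i <;> fin_cases j <;> simp [suzukiForm]
      rw [Subgroup.mem_comap, this]; exact c.Ws_mem
  refine ⟨f.codRestrict (Sz F m) fun x => (htop ▸ Subgroup.mem_top x : x ∈ (Sz F m).comap f),
    fun x y hxy => ?_⟩
  have h1 : f x = f y := congrArg Subtype.val hxy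
  ext i j
  exact φ.injective (congrFun (congrFun (congrArg Subtype.val h1) i) j)

theorem sz_prime_of_isMinimalSimple (c : Ctx F m) (h : IsMinimalSimple (Sz F m)) :
    (2 * m + 1).Prime := by
  by_contra hp
  have hm := c.hm
  obtain ⟨e, he⟩ := Nat.minFac_dvd (2 * m + 1)
  have hd := Nat.minFac_prime (n := 2 * m + 1) (by omega)
  generalize (2 * m + 1).minFac = d at he hd
  have hodd : Odd (d * e) := he ▸ odd_two_mul_add_one m
  obtain ⟨k, rfl⟩ := (Nat.odd_mul.1 hodd).1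
  obtain ⟨t, rfl⟩ := (Nat.odd_mul.1 hodd).2
  have hk : 1 ≤ k := by have := hd.two_le; omega
  have ht : 1 ≤ t := by
    by_contra h0
    obtain rfl : t = 0 := by omega
    exact hp (by rw [he]; simpa using hd)
  have hmk : m = (2 * k + 1) * t + k := by nlinarith
  have : Fact (Nat.Prime 2) := ⟨Nat.prime_two⟩
  let K := GaloisField 2 (2 * k + 1)
  let _ : Fintype K := Fintype.ofFinite K
  have hK : Fintype.card K = 2 ^ (2 * k + 1) := by
    rw [← Nat.card_eq_fintype_card, GaloisField.card 2 _ (by omega)]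
  have d : Ctx K k := ⟨hk, hK⟩
  obtain ⟨φ⟩ := CL.PSL2.nonempty_ringHom_of_card_pow (F := F) (K := K) (m := 2 * t + 1)
    (by rw [hK, c.hF, ← pow_mul, he])
  obtain ⟨f, hf⟩ := sz_exists_hom c d φ fun x => by
    rw [c.θ_eq, d.θ_eq, ← map_pow, hmk, add_assoc, pow_add 2 (_ * t), pow_mul x, pow_mul 2, ← hK,
      FiniteField.pow_card_pow]
  refine not_isMinimalSimple_of_injective f hf (sz_not_isSolvable d) ?_ h
  have hlt : Fintype.card K < Fintype.card F := by
    rw [hK, c.hF]; exact Nat.pow_lt_pow_right (by norm_num) (by nlinarith)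
  have h8 := d.eight_le
  rw [c.card_Sz, d.card_Sz]
  generalize Fintype.card K = a at hlt h8
  generalize Fintype.card F = b at hlt
  apply ne_of_lt
  have h1 : a ^ 2 < b ^ 2 := Nat.pow_lt_pow_left hlt (by norm_num)
  exact Nat.mul_lt_mul'' (Nat.mul_lt_mul'' h1 (by omega)) (by omega)

theorem four_le_card_primeFactors {a b c d n : ℕ} (hn : n ≠ 0) (ha : a ≠ 1) (hb : b ≠ 1)
    (hc : c ≠ 1) (hd : d ≠ 1) (hab : a.Coprime b) (hac : a.Coprime c) (had : a.Coprime d)
    (hbc : b.Coprime c) (hbd : b.Coprime d) (hcd : c.Coprime d) (h1 : a ∣ n) (h2 : b ∣ n)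
    (h3 : c ∣ n) (h4 : d ∣ n) : 4 ≤ n.primeFactors.card := by
  have hne : ∀ {x y : ℕ}, x ≠ 1 → x.Coprime y → x.minFac ≠ y.minFac := fun {x y} hx h e =>
    (Nat.minFac_prime hx).one_lt.ne'
      (Nat.eq_one_of_dvd_coprimes h (Nat.minFac_dvd x) (e ▸ Nat.minFac_dvd y))
  have hmem : ∀ {x : ℕ}, x ≠ 1 → x ∣ n → x.minFac ∈ n.primeFactors := fun {x} hx h =>
    Nat.mem_primeFactors.2 ⟨Nat.minFac_prime hx, (Nat.minFac_dvd x).trans h, hn⟩
  have hsub : ({a.minFac, b.minFac, c.minFac, d.minFac} : Finset ℕ) ⊆ n.primeFactors := by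
    intro x hx
    simp only [Finset.mem_insert, Finset.mem_singleton] at hx
    rcases hx with rfl | rfl | rfl | rfl
    exacts [hmem ha h1, hmem hb h2, hmem hc h3, hmem hd h4]
  refine le_trans (le_of_eq ?_) (Finset.card_le_card hsub)
  rw [Finset.card_insert_of_notMem, Finset.card_insert_of_notMem, Finset.card_pair (hne hc hcd)]
  · simp [hne hb hbc, hne hb hbd]
  · simp [hne ha hab, hne ha hac, hne ha had]

theorem suzuki_order_primeFactors {m : ℕ} (hm : 1 ≤ m) :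
    4 ≤ ((2 ^ (2 * m + 1)) ^ 2 * ((2 ^ (2 * m + 1)) ^ 2 + 1) *
      (2 ^ (2 * m + 1) - 1)).primeFactors.card := by
  obtain ⟨k, rfl⟩ : ∃ k, m = k + 1 := ⟨m - 1, by omega⟩
  obtain ⟨s, hs⟩ : ∃ s, 2 ^ k = s + 1 := ⟨2 ^ k - 1, by have := Nat.one_le_two_pow (n := k); omega⟩
  have hq : 2 ^ (2 * (k + 1) + 1) = 8 * (s + 1) ^ 2 := by rw [← hs]; ring
  have hcop : ∀ x : ℕ, Odd x → x.Coprime (s + 1) := fun x hx => by
    rw [← hs]; exact (Nat.coprime_two_right.2 hx).pow_right k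
  rw [hq]
  obtain ⟨A, hA⟩ : ∃ A, A = 8 * s ^ 2 + 12 * s + 5 := ⟨_, rfl⟩
  obtain ⟨B, hB⟩ : ∃ B, B = 8 * s ^ 2 + 16 * s + 7 := ⟨_, rfl⟩
  have e1 : 8 * (s + 1) ^ 2 - 1 = B := by
    rw [show 8 * (s + 1) ^ 2 = B + 1 by rw [hB]; ring]; rfl
  have e2 : (8 * (s + 1) ^ 2) ^ 2 + 1 = A * (A + 8 * (s + 1)) := by rw [hA]; ring
  have e3 : A * (A + 8 * (s + 1)) = 2 + B * (B + 2) := by rw [hA, hB]; ring
  have oA : Odd A := ⟨4 * s ^ 2 + 6 * s + 2, by rw [hA]; ring⟩
  have oB : Odd B := ⟨4 * s ^ 2 + 8 * s + 3, by rw [hB]; ring⟩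
  have oC : Odd (A + 8 * (s + 1)) := oA.add_even ⟨4 * (s + 1), by ring⟩
  have hBc : B.Coprime (A * (A + 8 * (s + 1))) := by
    rw [e3, Nat.coprime_add_mul_left_right]; exact Nat.coprime_two_right.2 oB
  have hAC : A.Coprime (A + 8 * (s + 1)) := by
    rw [Nat.coprime_self_add_right]
    exact ((Nat.coprime_two_right.2 oA).pow_right 3).mul_right (hcop A oA)
  rw [e1, e2]
  refine four_le_card_primeFactors (a := 2) (b := B) (c := A) (d := A + 8 * (s + 1)) ?_ (by norm_num)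
    (by omega) (by omega) (by omega) (Nat.coprime_two_left.2 oB) (Nat.coprime_two_left.2 oA)
    (Nat.coprime_two_left.2 oC) (hBc.coprime_dvd_right (dvd_mul_right _ _))
    (hBc.coprime_dvd_right (dvd_mul_left _ _)) hAC ?_ (dvd_mul_left _ _) ?_ ?_
  · have : A ≠ 0 := by omega
    have : B ≠ 0 := by omega
    positivity
  · exact Dvd.dvd.mul_right (Dvd.dvd.mul_right ⟨32 * (s + 1) ^ 4, by ring⟩ _) _
  · exact Dvd.dvd.mul_right (Dvd.dvd.mul_left (dvd_mul_right _ _) _) _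
  · exact Dvd.dvd.mul_right (Dvd.dvd.mul_left (dvd_mul_left _ _) _) _

/-- Transfer from the prelude's two models of the Suzuki groups. -/
theorem exists_ctx_of_isoSuzuki {G : Type*} [Group G] (h : Lie.IsoSuzuki G) :
    ∃ (F : Type) (_ : Field F) (_ : Fintype F) (m : ℕ), Ctx F m ∧ Nonempty (G ≃* Sz F m) := by
  obtain ⟨F, _, _, m, hm, hF, ⟨e⟩⟩ := h
  have c : Ctx F m := ⟨hm, hF⟩
  exact ⟨F, _, _, m, c, ⟨e.trans c.equivLie.symm⟩⟩

theorem isSuzuki_of_mulEquiv {G : Type*} [Group G] (c : Ctx F m) (e : G ≃* Sz F m) :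
    IsSuzuki G := by
  have := c.simple
  exact ⟨e.isSimpleGroup, m, c.hm, by rw [Nat.card_congr e.toEquiv, c.card_Sz, c.hF]⟩

theorem isSuzuki_of_isoSuzuki {G : Type*} [Group G] (h : Lie.IsoSuzuki G) : IsSuzuki G := by
  obtain ⟨F, _, _, m, c, ⟨e⟩⟩ := exists_ctx_of_isoSuzuki h
  exact isSuzuki_of_mulEquiv c e

end CL.NGr
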