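import Cfsg.Agent.Base
import Cfsg.Agent.Solv.MinNormal

/-! Triples of elements of pairwise coprime orders with product one, and minimal simple sections. -/

set_option autoImplicit false
open Cfsg Subgroup

namespace CL.NGr

universe u

/-- Three non-identity elements of pairwise coprime orders with product one. -/
def HasTriple (G : Type*) [Group G] : Prop :=
  ∃ a b c : G, a ≠ 1 ∧ b ≠ 1 ∧ c ≠ 1 ∧ (orderOf a).Coprime (orderOf b) ∧
    (orderOf b).Coprime (orderOf c) ∧ (orderOf a).Coprime (orderOf c) ∧ a * b * c = 1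

variable {G H : Type*} [Group G] [Group H]

theorem eq_one_of_pow_coprime {a : G} {m n : ℕ} (h : m.Coprime n) (hm : a ^ m = 1)
    (hn : a ^ n = 1) : a = 1 := by
  rw [← orderOf_eq_one_iff]
  exact Nat.eq_one_of_dvd_coprimes h (orderOf_dvd_of_pow_eq_one hm) (orderOf_dvd_of_pow_eq_one hn)

theorem hasTriple_of_pow {a b c : G} {l m n : ℕ} (ha : a ^ l = 1) (hb : b ^ m = 1)
    (hc : c ^ n = 1) (hlm : l.Coprime m) (hmn : m.Coprime n) (hln : l.Coprime n)
    (habc : a * b * c = 1) (h1 : a ≠ 1) : HasTriple G := by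
  have hb1 : b ≠ 1 := by
    rintro rfl
    have : c = a⁻¹ := by rw [mul_one] at habc; exact (eq_inv_of_mul_eq_one_right habc)
    subst this
    exact h1 (eq_one_of_pow_coprime hln ha (by rwa [inv_pow, inv_eq_one] at hc))
  have hc1 : c ≠ 1 := by
    rintro rfl
    have : b = a⁻¹ := by rw [mul_one] at habc; exact (eq_inv_of_mul_eq_one_right habc)
    subst this
    exact h1 (eq_one_of_pow_coprime hlm ha (by rwa [inv_pow, inv_eq_one] at hb))
  have da := orderOf_dvd_of_pow_eq_one ha
  have db := orderOf_dvd_of_pow_eq_one hb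
  have dc := orderOf_dvd_of_pow_eq_one hc
  exact ⟨a, b, c, h1, hb1, hc1, (hlm.coprime_dvd_left da).coprime_dvd_right db,
    (hmn.coprime_dvd_left db).coprime_dvd_right dc, (hln.coprime_dvd_left da).coprime_dvd_right dc,
    habc⟩

theorem HasTriple.of_injective (f : H →* G) (hf : Function.Injective f) (h : HasTriple H) :
    HasTriple G := by
  obtain ⟨a, b, c, ha, -, -, h1, h2, h3, h4⟩ := h
  refine hasTriple_of_pow (a := f a) (b := f b) (c := f c) ?_ ?_ ?_ h1 h2 h3 ?_ ?_
  · rw [← map_pow, pow_orderOf_eq_one, map_one]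
  · rw [← map_pow, pow_orderOf_eq_one, map_one]
  · rw [← map_pow, pow_orderOf_eq_one, map_one]
  · rw [← map_mul, ← map_mul, h4, map_one]
  · exact fun h => ha (hf (h.trans (map_one f).symm))

theorem HasTriple.of_mulEquiv (e : G ≃* H) (h : HasTriple H) : HasTriple G :=
  h.of_injective e.symm.toMonoidHom e.symm.injective

/-- A triple in the image of a homomorphism to a commutative group is trivial. -/
theorem eq_one_of_triple_comm {a b c : G} {l m n : ℕ} (ha : a ^ l = 1) (hb : b ^ m = 1)
    (hc : c ^ n = 1) (hlm : l.Coprime m) (hln : l.Coprime n) (hbc : Commute b c)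
    (habc : a * b * c = 1) : a = 1 := by
  have h1 : a = (b * c)⁻¹ := eq_inv_of_mul_eq_one_left (by rwa [mul_assoc] at habc)
  refine eq_one_of_pow_coprime (Nat.Coprime.mul_right hlm hln) ha ?_
  rw [h1, inv_pow, hbc.mul_pow, pow_mul, hb, one_pow, mul_comm m n, pow_mul, hc]
  simp

theorem HasTriple.not_isSolvable (h : HasTriple G) : ¬ Group.IsSolvable G := by
  obtain ⟨a, b, c, ha, -, -, h1, h2, h3, h4⟩ := h
  intro hs
  have key : ∀ n, a ∈ derivedSeries G n ∧ b ∈ derivedSeries G n ∧ c ∈ derivedSeries G n := by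
    intro n
    induction n with
    | zero => simp
    | succ n ih =>
      obtain ⟨ia, ib, ic⟩ := ih
      set D := derivedSeries G n
      let f := Abelianization.of (G := D)
      have hf : ∀ x : D, f x = 1 → (x : G) ∈ derivedSeries G (n + 1) := fun x hx => by
        have hx' : x ∈ commutator D := (QuotientGroup.eq_one_iff x).1 hx
        have := mem_map_of_mem D.subtype hx'
        rwa [commutator_def, map_commutator, ← MonoidHom.range_eq_map, range_subtype] at this
      have pa : f ⟨a, ia⟩ ^ orderOf a = 1 := by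
        rw [← map_pow, ← map_one f]; congr 1; ext; simp
      have pb : f ⟨b, ib⟩ ^ orderOf b = 1 := by
        rw [← map_pow, ← map_one f]; congr 1; ext; simp
      have pc : f ⟨c, ic⟩ ^ orderOf c = 1 := by
        rw [← map_pow, ← map_one f]; congr 1; ext; simp
      have e : f ⟨a, ia⟩ * f ⟨b, ib⟩ * f ⟨c, ic⟩ = 1 := by
        rw [← map_mul, ← map_mul, ← map_one f]; congr 1; ext; exact h4
      refine ⟨hf ⟨a, ia⟩ (eq_one_of_triple_comm pa pb pc h1 h3 (Commute.all _ _) e),
        hf ⟨b, ib⟩ (eq_one_of_triple_comm pb pc pa h2 h1.symm (Commute.all _ _) ?_),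
        hf ⟨c, ic⟩ (eq_one_of_triple_comm pc pa pb h3.symm h2.symm (Commute.all _ _) ?_)⟩
      · rw [← e]; ac_rfl
      · rw [← e]; ac_rfl
  obtain ⟨n, hn⟩ := hs.solvable
  exact ha (by simpa [hn] using (key n).1)

/-- An element of order prime to `p` lifts through a normal `p`-subgroup. -/
theorem exists_lift_of_coprime [Finite G] {p : ℕ} [Fact p.Prime] {N : Subgroup G} [N.Normal]
    (hN : IsPGroup p N) (x : G ⧸ N) {m : ℕ} (hm : x ^ m = 1) (hp : p.Coprime m) :
    ∃ y : G, (y : G ⧸ N) = x ∧ y ^ m = 1 := by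
  obtain ⟨y, rfl⟩ := QuotientGroup.mk_surjective x
  have h1 : y ^ m ∈ N := (QuotientGroup.eq_one_iff _).1 (by rwa [QuotientGroup.mk_pow])
  obtain ⟨k, hk⟩ := hN ⟨_, h1⟩
  have hk' : (y ^ m) ^ p ^ k = 1 := congrArg Subtype.val hk
  obtain ⟨u, hu1, hu2⟩ := Nat.chineseRemainder (Nat.Coprime.pow_left k hp) 0 1
  refine ⟨y ^ u, ?_, ?_⟩
  · rw [QuotientGroup.mk_pow]
    conv_rhs => rw [← pow_one (y : G ⧸ N)]
    exact (pow_eq_pow_of_modEq hu2 hm)
  · obtain ⟨t, rfl⟩ := (Nat.modEq_zero_iff_dvd).1 hu1
    rw [← pow_mul, mul_comm, pow_mul, pow_mul, hk', one_pow]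

theorem HasTriple.of_quotient_aux [Finite G] {p : ℕ} [Fact p.Prime] {N : Subgroup G} [N.Normal]
    (hN : IsPGroup p N) {a b c : G ⧸ N} (ha : a ≠ 1) (h1 : (orderOf a).Coprime (orderOf b))
    (h2 : (orderOf b).Coprime (orderOf c)) (h3 : (orderOf a).Coprime (orderOf c))
    (h4 : a * b * c = 1) (hpa : p.Coprime (orderOf a)) (hpb : p.Coprime (orderOf b)) :
    HasTriple G := by
  obtain ⟨x, rfl, hx⟩ := exists_lift_of_coprime hN a (pow_orderOf_eq_one a) hpa
  obtain ⟨y, rfl, hy⟩ := exists_lift_of_coprime hN b (pow_orderOf_eq_one b) hpb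
  have hc : c = (((x * y)⁻¹ : G) : G ⧸ N) := by
    rw [QuotientGroup.mk_inv, QuotientGroup.mk_mul]; exact eq_inv_of_mul_eq_one_right h4
  have h5 : ((x * y)⁻¹) ^ orderOf c ∈ N :=
    (QuotientGroup.eq_one_iff _).1 (by rw [QuotientGroup.mk_pow, ← hc, pow_orderOf_eq_one])
  obtain ⟨k, hk⟩ := hN ⟨_, h5⟩
  have hk' : ((x * y)⁻¹) ^ (orderOf c * p ^ k) = 1 := by
    rw [pow_mul]; exact congrArg Subtype.val hk
  exact hasTriple_of_pow hx hy hk' h1 (h2.mul_right (hpb.symm.pow_right k))
    (h3.mul_right (hpa.symm.pow_right k)) (mul_inv_cancel _) fun h => ha (by rw [h]; rfl)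

theorem HasTriple.of_quotient [Finite G] {p : ℕ} [hp : Fact p.Prime] {N : Subgroup G} [N.Normal]
    (hN : IsPGroup p N) (h : HasTriple (G ⧸ N)) : HasTriple G := by
  obtain ⟨a, b, c, ha, hb, hc, h1, h2, h3, h4⟩ := h
  have h5 : b * c * a = 1 := by
    rw [mul_assoc] at h4; rw [mul_eq_one_comm] at h4; exact h4
  have h6 : c * a * b = 1 := by
    rw [mul_eq_one_comm] at h4; rw [mul_assoc]; exact h4
  have hco : ∀ {m n : ℕ}, m.Coprime n → p ∣ m → p.Coprime n := fun h hm => h.coprime_dvd_left hm
  by_cases pa : p ∣ orderOf a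
  · exact HasTriple.of_quotient_aux hN hb h2 h3.symm h1.symm h5 (hco h1 pa) (hco h3 pa)
  by_cases pb : p ∣ orderOf b
  · exact HasTriple.of_quotient_aux hN hc h3.symm h1 h2.symm h6 (hco h2 pb) (hco h1.symm pb)
  exact HasTriple.of_quotient_aux hN ha h1 h2 h3 h4 ((Nat.Prime.coprime_iff_not_dvd hp.out).2 pa)
    ((Nat.Prime.coprime_iff_not_dvd hp.out).2 pb)

theorem not_isMulCommutative_of_not_isSolvable (h : ¬ Group.IsSolvable G) :
    ¬ IsMulCommutative G := fun hc =>
  h (Group.isSolvable_of_comm fun a b => hc.is_comm.comm a b)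

/-- If every finite minimal simple group has a triple, so has every non-solvable finite group. -/
theorem hasTriple_of_not_isSolvable
    (hmin : ∀ (G : Type u) [Group G] [Finite G], IsMinimalSimple G → HasTriple G) (n : ℕ) :
    ∀ (G : Type u) [Group G] [Finite G], Nat.card G = n → ¬ Group.IsSolvable G → HasTriple G := by
  induction n using Nat.strong_induction_on with
  | _ n ih =>
  intro G _ _ hn hns
  by_contra hT
  have hprop : ∀ H : Subgroup G, H ≠ ⊤ → Group.IsSolvable H := fun H hH => by
    by_contra h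
    exact hT ((ih _ (hn ▸ card_lt_of_ne_top H hH) H rfl h).of_injective H.subtype
      H.subtype_injective)
  have : Nontrivial G := by
    by_contra h
    rw [not_nontrivial_iff_subsingleton] at h
    exact hns inferInstance
  refine hT (hmin G ⟨⟨fun N hN => ?_⟩, not_isMulCommutative_of_not_isSolvable hns, hprop⟩)
  by_contra hc
  push Not at hc
  have h1 := hprop N hc.2
  obtain ⟨p, M, hp, hM, -, hE⟩ := exists_normal_elementary_le N hc.1
  have := hM.normal
  have := Fact.mk hp
  have hP := isPGroup_of_isElementaryAbelian hE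
  refine hT (HasTriple.of_quotient hP (ih _ (hn ▸ card_quotient_lt M hM.ne_bot) (G ⧸ M) rfl ?_))
  intro h2
  have : Group.IsSolvable M := have := hP.isNilpotent; inferInstance
  exact hns (Group.isSolvable_of_ker_le_range M.subtype (QuotientGroup.mk' M) (by simp))

theorem isMinimalSimple_of_mulEquiv (e : G ≃* H) (h : IsMinimalSimple G) : IsMinimalSimple H := by
  obtain ⟨h1, h2, h3⟩ := h
  refine ⟨e.symm.isSimpleGroup, fun hc => h2 ⟨⟨fun a b => e.injective ?_⟩⟩, fun K hK => ?_⟩
  · rw [map_mul, map_mul, hc.is_comm.comm]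
  · have := h3 (K.comap e.toMonoidHom) fun h => hK (by
      rw [← map_comap_eq_self_of_surjective (f := e.toMonoidHom) e.surjective K, h,
        map_top_of_surjective _ e.surjective])
    exact Group.isSolvable_of_surjective (f := (e.toMonoidHom.subgroupComap K))
      (MonoidHom.subgroupComap_surjective_of_surjective _ _ e.surjective)

/-- A non-solvable finite group has a minimal simple section. -/
theorem exists_minimalSimple_section [Finite G] (hG : ¬ Group.IsSolvable G) :
    ∃ (H : Subgroup G) (N : Subgroup H) (_ : N.Normal), IsMinimalSimple (H ⧸ N) := by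
  obtain ⟨H, hH, hmin⟩ := (wellFounded_lt (α := Subgroup G)).has_min
    {H | ¬ Group.IsSolvable H} ⟨⊤, fun h => hG
      (Group.isSolvable_of_surjective (f := (⊤ : Subgroup G).subtype) fun x => ⟨⟨x, trivial⟩, rfl⟩)⟩
  have hH' : ¬ Group.IsSolvable H := hH
  have hprop : ∀ K : Subgroup H, K ≠ ⊤ → Group.IsSolvable K := fun K hK => by
    by_contra h
    refine hmin (K.map H.subtype) (fun h' => h ?_) (lt_of_le_of_ne (map_subtype_le K) fun h' => hK ?_)
    · exact Group.isSolvable_of_isSolvable_injective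
        (f := (K.equivMapOfInjective H.subtype H.subtype_injective).toMonoidHom)
        (MulEquiv.injective _)
    · apply map_injective H.subtype_injective
      rw [h', ← MonoidHom.range_eq_map, range_subtype]
  have : Nontrivial H := by
    by_contra h
    rw [not_nontrivial_iff_subsingleton] at h
    exact hH' inferInstance
  obtain ⟨N, ⟨hN, hN1⟩, hmax⟩ := (wellFounded_gt (α := Subgroup H)).has_min
    {N | N.Normal ∧ N ≠ ⊤} ⟨⊥, inferInstance, bot_ne_top⟩
  have hs := hprop N hN1
  have hq : ¬ Group.IsSolvable (H ⧸ N) := fun h =>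
    hH' (Group.isSolvable_of_ker_le_range N.subtype (QuotientGroup.mk' N) (by simp))
  have : Nontrivial (H ⧸ N) := by
    by_contra h
    rw [not_nontrivial_iff_subsingleton] at h
    exact hq inferInstance
  have hsurj := QuotientGroup.mk'_surjective N
  have hne : ∀ K : Subgroup (H ⧸ N), K ≠ ⊤ → K.comap (QuotientGroup.mk' N) ≠ ⊤ := fun K hK h =>
    hK (by rw [← map_comap_eq_self_of_surjective hsurj K, h, map_top_of_surjective _ hsurj])
  refine ⟨H, N, hN, ⟨fun K hK => ?_⟩, not_isMulCommutative_of_not_isSolvable hq, fun K hK => ?_⟩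
  · by_contra hc
    push Not at hc
    refine hmax (K.comap (QuotientGroup.mk' N)) ⟨inferInstance, hne K hc.2⟩
      (lt_of_le_of_ne (QuotientGroup.le_comap_mk' N K) fun h => hc.1 ?_)
    rw [← map_comap_eq_self_of_surjective hsurj K, ← h, QuotientGroup.map_mk'_self]
  · have := hprop _ (hne K hK)
    exact Group.isSolvable_of_surjective (f := ((QuotientGroup.mk' N).subgroupComap K))
      (MonoidHom.subgroupComap_surjective_of_surjective _ _ hsurj)

/-- A group with an injective image of a smaller non-solvable group is not minimal simple. -/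
theorem not_isMinimalSimple_of_injective [Finite G] (f : H →* G) (hf : Function.Injective f)
    (hH : ¬ Group.IsSolvable H) (hc : Nat.card H ≠ Nat.card G) : ¬ IsMinimalSimple G := by
  rintro ⟨-, -, h⟩
  have e := MonoidHom.ofInjective hf
  have := h f.range fun h' => hc (by rw [Nat.card_congr e.toEquiv, h', card_top])
  exact hH (Group.isSolvable_of_isSolvable_injective (f := e.toMonoidHom) e.injective)

end CL.NGr
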