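import Cfsg.Agent.Base
import Cfsg.Agent.Solv.SchmidtStruct
import Cfsg.Agent.Solv.CoreFree
import Cfsg.Agent.Transfer.Focal

/-!
# A generation lemma for coprime action of a cyclic group of odd order

If `w` has odd order and acts coprimely on the solvable group `X = [X, w]`, then `C_X(w)` is the
normal closure (in `C_X(w)`) of the elements that lie in `⟨w, w^x⟩^{⟨c⟩}` for some `x ∈ X`,
`c ∈ C_X(w)`.
-/

set_option autoImplicit false

namespace CL.TwoGen

open Subgroup Cfsg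
open scoped commutatorElement Pointwise

variable {G : Type*} [Group G]

/-- the smallest subgroup containing `w`, `x w x⁻¹` and normalized by `c` -/
def gen (w x c : G) : Subgroup G :=
  sInf {M : Subgroup G | w ∈ M ∧ x * w * x⁻¹ ∈ M ∧ c ∈ normalizer (M : Set G)}

theorem gen_le {w x c : G} {M : Subgroup G} (h1 : w ∈ M) (h2 : x * w * x⁻¹ ∈ M)
    (h3 : c ∈ normalizer (M : Set G)) : gen w x c ≤ M :=
  sInf_le ⟨h1, h2, h3⟩

theorem left_mem_gen (w x c : G) : w ∈ gen w x c := mem_sInf.2 fun _ h => h.1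

theorem conj_mem_gen (w x c : G) : x * w * x⁻¹ ∈ gen w x c := mem_sInf.2 fun _ h => h.2.1

theorem mem_normalizer_gen (w x c : G) : c ∈ normalizer (gen w x c : Set G) := by
  rw [mem_normalizer_iff]
  intro h
  simp only [gen, mem_sInf]
  exact ⟨fun H M hM => (mem_normalizer_iff.1 hM.2.2 h).1 (H M hM),
    fun H M hM => (mem_normalizer_iff.1 hM.2.2 h).2 (H M hM)⟩

theorem gen_one_le (w x c : G) : gen w x 1 ≤ gen w x c :=
  gen_le (left_mem_gen w x c) (conj_mem_gen w x c) (one_mem _)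

theorem zpowers_le_gen (w x c : G) : zpowers w ≤ gen w x c :=
  zpowers_le.2 (left_mem_gen w x c)

theorem commutator_mem_gen (w x c : G) {d : G} (hd : d ∈ zpowers w) : ⁅x, d⁆ ∈ gen w x c := by
  obtain ⟨i, rfl⟩ := hd
  rw [commutatorElement_def, ← conj_zpow]
  exact mul_mem (zpow_mem (conj_mem_gen w x c) i) (inv_mem (zpow_mem (left_mem_gen w x c) i))

theorem gen_le_comap {H : Type*} [Group H] (f : G →* H) (w x c : G) :
    gen w x c ≤ (gen (f w) (f x) (f c)).comap f := by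
  refine gen_le (left_mem_gen _ _ _) ?_ ?_
  · rw [mem_comap, map_mul, map_mul, map_inv]; exact conj_mem_gen _ _ _
  · exact le_normalizer_comap f (mem_normalizer_gen (f w) (f x) (f c))

theorem gen_le_map {H : Type*} [Group H] (f : G →* H) (w x c : G) :
    gen (f w) (f x) (f c) ≤ (gen w x c).map f := by
  refine gen_le (mem_map_of_mem f (left_mem_gen _ _ _)) ?_ ?_
  · rw [← map_inv, ← map_mul, ← map_mul]; exact mem_map_of_mem f (conj_mem_gen _ _ _)
  · exact le_normalizer_map f (mem_map_of_mem f (mem_normalizer_gen w x c))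

/-- the elements normalizing `V` and acting trivially on `V / U` -/
def secC (V U : Subgroup G) (h : U ≤ V) : Subgroup G where
  carrier := {s | s ∈ normalizer (V : Set G) ∧ ∀ v ∈ V, ⁅v, s⁆ ∈ U}
  one_mem' := ⟨one_mem _, fun v _ => by simp⟩
  mul_mem' := by
    rintro s t ⟨hs, hs'⟩ ⟨ht, ht'⟩
    refine ⟨mul_mem hs ht, fun v hv => ?_⟩
    have h1 := ht' v hv
    have : ⁅v, s * t⁆ = ⁅v, s⁆ * (⁅v, t⁆ * ⁅⁅v, t⁆⁻¹, s⁆) := by
      simp only [commutatorElement_def]; group
    rw [this]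
    exact mul_mem (hs' v hv) (mul_mem h1 (hs' _ (inv_mem (h h1))))
  inv_mem' := by
    rintro s ⟨hs, hs'⟩
    refine ⟨inv_mem hs, fun v hv => ?_⟩
    have : ⁅v, s⁻¹⁆ = ⁅s⁻¹ * v * s, s⁆⁻¹ := by simp only [commutatorElement_def]; group
    rw [this]
    exact inv_mem (hs' _ ((mem_normalizer_iff''.1 hs v).1 hv))

theorem le_secC_iff {V U S : Subgroup G} (h : U ≤ V) :
    S ≤ secC V U h ↔ S ≤ normalizer (V : Set G) ∧ ⁅V, S⁆ ≤ U :=
  ⟨fun H => ⟨fun _ hs => (H hs).1, commutator_le.2 fun v hv _ hs => (H hs).2 v hv⟩,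
    fun H _ hs => ⟨H.1 hs, fun _ hv => H.2 (commutator_mem_commutator hv hs)⟩⟩

/-- if `t` normalizes `B` without fixed points, every element of `B` is a commutator `[a, t]` -/
theorem exists_commutator_eq [Finite G] {B : Subgroup G} {t : G} (ht : t ∈ normalizer (B : Set G))
    (hB : ∀ b ∈ B, b * t = t * b → b = 1) {b : G} (hb : b ∈ B) : ∃ a ∈ B, ⁅a, t⁆ = b := by
  let φ : B → B := fun a => ⟨⁅(a : G), t⁆, by
    rw [commutatorElement_def, mul_assoc, mul_assoc, ← mul_assoc t]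
    exact mul_mem a.2 ((mem_normalizer_iff.1 ht _).1 (inv_mem a.2))⟩
  have hφ : Function.Injective φ := by
    intro a a' h
    have h1 : ⁅(a : G), t⁆ = ⁅(a' : G), t⁆ := congrArg Subtype.val h
    have h2 := hB ((a' : G)⁻¹ * a) (mul_mem (inv_mem a'.2) a.2) (by
      simp only [commutatorElement_def, mul_left_inj] at h1
      calc (a' : G)⁻¹ * a * t = (a' : G)⁻¹ * (a * t * (a : G)⁻¹) * a := by group
        _ = t * ((a' : G)⁻¹ * a) := by rw [h1]; group)
    exact Subtype.ext (inv_mul_eq_one.1 h2).symm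
  obtain ⟨a, ha⟩ := Finite.surjective_of_injective hφ ⟨b, hb⟩
  exact ⟨a, a.2, congrArg Subtype.val ha⟩

theorem commutator_sup_le {B E S : Subgroup G} (hB : S ≤ normalizer (B : Set G))
    (h : B ⊔ E = S) : ⁅S, S⁆ ≤ B ⊔ ⁅E, E⁆ := by
  have hE : E ≤ normalizer (B : Set G) := (h ▸ le_sup_right : E ≤ S).trans hB
  refine commutator_le.2 fun a ha b hb => ?_
  have ha' := ha
  have hb' := hb
  rw [← h] at ha' hb'
  obtain ⟨a1, ha1, a2, ha2, rfl⟩ := (Transfer.mem_sup_iff_of_le_normalizer' hE).1 ha'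
  obtain ⟨b1, hb1, b2, hb2, rfl⟩ := (Transfer.mem_sup_iff_of_le_normalizer' hE).1 hb'
  have : ⁅a1 * a2, b1 * b2⁆ = (a1 * (a2 * b1 * a2⁻¹) *
      ((a2 * b2 * a2⁻¹) * a1⁻¹ * (a2 * b2 * a2⁻¹)⁻¹) * (⁅a2, b2⁆ * b1⁻¹ * ⁅a2, b2⁆⁻¹)) * ⁅a2, b2⁆ := by
    simp only [commutatorElement_def]; group
  rw [this]
  have hc : ⁅a2, b2⁆ ∈ E := commutator_le_self E (commutator_mem_commutator ha2 hb2)
  refine mul_mem (mem_sup_left ?_) (mem_sup_right (commutator_mem_commutator ha2 hb2))
  exact mul_mem (mul_mem (mul_mem ha1 (conj_mem_of_le_normalizer hE ha2 hb1))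
    (conj_mem_of_le_normalizer hE (mul_mem (mul_mem ha2 hb2) (inv_mem ha2)) (inv_mem ha1)))
    (conj_mem_of_le_normalizer hE hc (inv_mem hb1))

/-- hypotheses of the generation lemma -/
structure LHyp (w : G) (X Y : Subgroup G) : Prop where
  odd : Odd (orderOf w)
  solv : Group.IsSolvable X
  norm : zpowers w ≤ normalizer (X : Set G)
  cop : (Nat.card (zpowers w)).Coprime (Nat.card X)
  comm : ⁅X, zpowers w⁆ = X
  le : Y ≤ X ⊓ centralizer (zpowers w : Set G)
  normY : X ⊓ centralizer (zpowers w : Set G) ≤ normalizer (Y : Set G)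
  gen : ∀ x ∈ X, ∀ c ∈ X ⊓ centralizer (zpowers w : Set G),
    X ⊓ centralizer (zpowers w : Set G) ⊓ gen w x c ≤ Y

/-- a minimal counterexample to the generation lemma -/
structure LMin (w : G) (X Y : Subgroup G) : Prop extends LHyp w X Y where
  normal : X.Normal
  top : X ⊔ zpowers w = ⊤
  quot : ∀ N : Subgroup G, N.Normal → N ≤ X → N ≠ ⊥ → ∀ c ∈ X ⊓ centralizer (zpowers w : Set G),
    ∃ y ∈ Y, ∃ n ∈ N ⊓ centralizer (zpowers w : Set G), c = y * n
  sub : ∀ X₁ : Subgroup G, X₁ < X → zpowers w ≤ normalizer (X₁ : Set G) →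
    ⁅X₁, zpowers w⁆ ⊓ centralizer (zpowers w : Set G) ≤ Y
  ne : ¬ X ⊓ centralizer (zpowers w : Set G) ≤ Y

theorem LHyp.sub_hyp [Finite G] {w : G} {X Y : Subgroup G} (h : LHyp w X Y) {X₁ : Subgroup G}
    (hle : X₁ ≤ X) (hn : zpowers w ≤ normalizer (X₁ : Set G)) :
    LHyp w ⁅X₁, zpowers w⁆ (Y ⊓ ⁅X₁, zpowers w⁆) := by
  have h1 : ⁅X₁, zpowers w⁆ ≤ X₁ := le_normalizer_iff_commutator_le_left.1 hn
  have hs : Group.IsSolvable X₁ := isSolvable_of_le hle h.solv
  refine ⟨h.odd, isSolvable_of_le h1 hs, normalizer_commutator_ge_right _ _,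
    coprime_card_of_le le_rfl (h1.trans hle) h.cop,
    coprime_commutator_commutator hn (coprime_card_of_le le_rfl hle h.cop) (Or.inr hs),
    le_inf inf_le_right (inf_le_left.trans (h.le.trans inf_le_right)), ?_, ?_⟩
  · exact le_normalizer_inf ((inf_le_inf_right _ (h1.trans hle)).trans h.normY)
      (inf_le_left.trans le_normalizer)
  · intro x hx c hc
    refine le_inf ?_ (inf_le_left.trans inf_le_left)
    exact (inf_le_inf_right _ (inf_le_inf_right _ (h1.trans hle))).trans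
      (h.gen x (hle (h1 hx)) c ⟨hle (h1 hc.1), hc.2⟩)

theorem LHyp.map_hyp [Finite G] {w : G} {X Y : Subgroup G} (h : LHyp w X Y) {H : Type*} [Group H]
    (f : G →* H) (hf : f.ker ≤ X) : LHyp (f w) (X.map f) (Y.map f) := by
  have key : ∀ K : Subgroup G, K ≤ X → zpowers w ≤ normalizer (K : Set G) →
      (K ⊓ centralizer (zpowers w : Set G)).map f =
        K.map f ⊓ centralizer (zpowers (f w) : Set H) := by
    intro K hK hn
    rw [map_inf_centralizer_of_coprime f hn
      (coprime_card_of_le le_rfl (inf_le_left.trans hK) h.cop)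
      (Or.inr (isSolvable_of_le (inf_le_left.trans hK) h.solv)), MonoidHom.map_zpowers]
  have hX := key X le_rfl h.norm
  have := h.solv
  refine ⟨h.odd.of_dvd_nat (orderOf_map_dvd f w), isSolvable_map f, ?_, ?_, ?_, ?_, ?_, ?_⟩
  · rw [← MonoidHom.map_zpowers]
    exact (map_mono h.norm).trans (le_normalizer_map f)
  · rw [← MonoidHom.map_zpowers]
    exact Nat.Coprime.coprime_dvd_left (card_map_dvd _ f)
      (Nat.Coprime.coprime_dvd_right (card_map_dvd _ f) h.cop)
  · rw [← MonoidHom.map_zpowers, ← map_commutator, h.comm]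
  · rw [← hX]; exact map_mono h.le
  · rw [← hX]; exact (map_mono h.normY).trans (le_normalizer_map f)
  · rintro _ ⟨x, hx, rfl⟩ c hc d ⟨⟨hd1, hd2⟩, hd3⟩
    rw [← hX] at hc
    obtain ⟨c, hc, rfl⟩ := hc
    obtain ⟨l, hl, rfl⟩ := gen_le_map f w x c hd3
    have hlX : l ∈ X := by
      have : l ∈ (X.map f).comap f := hd1
      rwa [comap_map_eq, sup_eq_left.2 hf] at this
    have h1 : f l ∈ (X ⊓ TwoGen.gen w x c).map f ⊓ centralizer (zpowers (f w) : Set H) :=
      ⟨mem_map_of_mem f ⟨hlX, hl⟩, hd2⟩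
    rw [← key _ inf_le_left
      (le_normalizer_inf h.norm ((zpowers_le_gen w x c).trans le_normalizer))] at h1
    obtain ⟨l', hl', he⟩ := h1
    exact he ▸ mem_map_of_mem f (h.gen x hx c hc ⟨⟨hl'.1.1, hl'.2⟩, hl'.1.2⟩)

theorem mem_centralizer_zpowers {w c : G} :
    c ∈ centralizer (zpowers w : Set G) ↔ w * c = c * w := by
  rw [mem_centralizer_iff]
  refine ⟨fun h => h w (mem_zpowers w), fun h d hd => ?_⟩
  obtain ⟨i, rfl⟩ := hd
  exact ((show Commute w c from h).zpow_left i).eq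

theorem LHyp.subgroupOf_hyp {w : G} {X Y : Subgroup G} (h : LHyp w X Y) {K : Subgroup G}
    (hX : X ≤ K) (hw : w ∈ K) : LHyp (⟨w, hw⟩ : K) (X.subgroupOf K) (Y.subgroupOf K) := by
  have hz : zpowers (⟨w, hw⟩ : K) = (zpowers w).subgroupOf K := by
    apply map_injective K.subtype_injective
    rw [MonoidHom.map_zpowers, map_subgroupOf_eq_of_le (zpowers_le.2 hw)]
    rfl
  have hc : ∀ c : K, c ∈ X.subgroupOf K ⊓ centralizer (zpowers (⟨w, hw⟩ : K) : Set K) ↔
      (c : G) ∈ X ⊓ centralizer (zpowers w : Set G) := by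
    intro c
    simp only [mem_inf, mem_centralizer_zpowers, mem_subgroupOf, Subtype.ext_iff, coe_mul]
  have := h.solv
  refine ⟨by rw [← orderOf_coe]; exact h.odd,
    Group.isSolvable_of_isSolvable_injective (f := (subgroupOfEquivOfLe hX).toMonoidHom)
      (subgroupOfEquivOfLe hX).injective, ?_, ?_, ?_, fun c hc' => (hc c).2 (h.le hc'),
    fun c hc' => le_normalizer_comap K.subtype (h.normY ((hc c).1 hc')), ?_⟩
  · rw [hz]
    exact fun c hc' => le_normalizer_comap K.subtype (h.norm hc')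
  · rw [hz, card_subgroupOf_eq_of_le (zpowers_le.2 hw), card_subgroupOf_eq_of_le hX]
    exact h.cop
  · apply map_injective K.subtype_injective
    rw [map_commutator, hz, map_subgroupOf_eq_of_le hX,
      map_subgroupOf_eq_of_le (zpowers_le.2 hw), h.comm]
  · rintro x hx c hc' d ⟨hd1, hd2⟩
    exact h.gen x hx c ((hc c).1 hc') ⟨(hc d).1 hd1, gen_le_comap K.subtype _ x c hd2⟩

end CL.TwoGen
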