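import Cfsg.Agent.Base
import Cfsg.Agent.NGr.TwoGenL

/-!
# The generation lemma for coprime action of a cyclic group of odd order: proof
-/

set_option autoImplicit false

namespace CL.TwoGen

open Subgroup Cfsg
open scoped commutatorElement Pointwise

variable {G : Type*} [Group G] [Finite G] {w : G} {X Y : Subgroup G}

namespace LMin

theorem not_le (h : LMin w X Y) {N : Subgroup G} (hN : N.Normal) (hNX : N ≤ X) (h0 : N ≠ ⊥) :
    ¬ N ⊓ centralizer (zpowers w : Set G) ≤ Y := by
  intro hle
  apply h.ne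
  intro c hc
  obtain ⟨y, hy, n, hn, rfl⟩ := h.quot N hN hNX h0 c hc
  exact mul_mem hy (hle hn)

omit [Finite G] in
theorem normal_of (h : LMin w X Y) {N : Subgroup G} (h1 : X ≤ normalizer (N : Set G))
    (h2 : zpowers w ≤ normalizer (N : Set G)) : N.Normal := by
  rw [← normalizer_eq_top_iff, eq_top_iff, ← h.top]
  exact sup_le h1 h2

theorem cop' (h : LMin w X Y) {K : Subgroup G} (hK : K ≤ X) :
    (Nat.card (zpowers w)).Coprime (Nat.card K) := coprime_card_of_le le_rfl hK h.cop

omit [Finite G] in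
theorem solv' (h : LMin w X Y) {K : Subgroup G} (hK : K ≤ X) :
    Group.IsSolvable (zpowers w) ∨ Group.IsSolvable K := Or.inr (isSolvable_of_le hK h.solv)

/-- a noncentral minimal normal subgroup has a `w`-invariant coprime operator group in `X` acting
without fixed points -/
theorem exists_fpf (h : LMin w X Y) {V : Subgroup G} (hV : IsMinNormal V) {r : ℕ} [Fact r.Prime]
    (hVr : IsPGroup r V) (hc : ¬ X ≤ centralizer (V : Set G)) :
    ∃ S : Subgroup G, S ≤ X ∧ zpowers w ≤ normalizer (S : Set G) ∧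
      (Nat.card S).Coprime (Nat.card V) ∧ V ⊓ centralizer (S : Set G) = ⊥ := by
  have := hV.normal
  have := h.normal
  have := h.solv
  set K : Subgroup G := X ⊓ centralizer (V : Set G) with hK
  have hKn : K.Normal := inferInstance
  set f := QuotientGroup.mk' K with hf
  have hsurj : Function.Surjective f := QuotientGroup.mk'_surjective K
  have hXn : (X.map f).Normal := h.normal.map f hsurj
  have hXs : Group.IsSolvable (X.map f) := isSolvable_map f
  have hX0 : X.map f ≠ ⊥ := by
    rw [Ne, Subgroup.map_eq_bot_iff, QuotientGroup.ker_mk']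
    exact fun H => hc (H.trans inf_le_right)
  obtain ⟨s, Nb, hs, hNb, hNbX, hNbe⟩ := exists_normal_elementary_le (X.map f) hX0
  have := Fact.mk hs
  have := hNb.normal
  set N := Nb.comap f with hN
  have hNX : N ≤ X := by
    refine (comap_mono hNbX).trans ?_
    rw [comap_map_eq, QuotientGroup.ker_mk']
    exact sup_le le_rfl inf_le_left
  have hNn : N.Normal := inferInstance
  obtain ⟨S, hSN, hSc, hwS⟩ := coprime_exists_invariant_sylow (A := zpowers w) (K := N)
    (by rw [normalizer_eq_top]; exact le_top) (h.cop' hNX) (h.solv' hNX) s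
  have hSp : IsPGroup s S := IsPGroup.of_card hSc
  obtain ⟨S', hS'⟩ := exists_sylow_map_subtype_eq hSN hSc
  have hSyl : Transfer.IsSylowIn s S N := hS' ▸ Transfer.isSylowIn_map_subtype S'
  have hmap : S.map f = Nb := by
    have h1 := hSyl.map f
    rw [hN, map_comap_eq_self_of_surjective hsurj] at h1
    exact (h1.eq_of_le (isPGroup_of_isElementaryAbelian hNbe) h1.le le_rfl).symm
  have hNle : N ≤ S ⊔ K := by
    rw [hN, ← hmap, comap_map_eq, QuotientGroup.ker_mk']
  have hCS : V ⊓ centralizer (S : Set G) = V ⊓ centralizer (N : Set G) := by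
    refine le_antisymm (le_inf inf_le_left ?_) (inf_le_inf_left _ (centralizer_le hSN))
    refine le_trans ?_ (centralizer_le hNle)
    rw [centralizer_sup_eq_inf]
    exact le_inf inf_le_right (inf_le_left.trans (le_centralizer_iff.1 inf_le_right))
  have hbot : V ⊓ centralizer (S : Set G) = ⊥ := by
    rw [hCS]
    refine (hV.eq_bot_or_eq _ inferInstance inf_le_left).resolve_right fun he => hNb.ne_bot ?_
    have h1 : N ≤ K := le_inf hNX (le_centralizer_iff.1 (he ▸ inf_le_right))
    rw [← map_comap_eq_self_of_surjective hsurj Nb, Subgroup.map_eq_bot_iff,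
      QuotientGroup.ker_mk']
    exact h1
  refine ⟨S, hSN.trans hNX, hwS, ?_, hbot⟩
  refine IsPGroup.coprime_card_of_ne s r ?_ _ _ hSp hVr
  rintro rfl
  exact CF.inf_centralizer_ne_bot V S hVr hV.ne_bot hSp
    (by rw [normalizer_eq_top]; exact le_top) hbot

theorem le_centralizer_of_min (h : LMin w X Y) {V : Subgroup G} (hV : IsMinNormal V)
    (hVX : V ≤ X) : X ≤ centralizer (V : Set G) := by
  by_contra hc
  have := hV.normal
  have := isSolvable_of_le hVX h.solv
  obtain ⟨r, hr, hVr, hVc, -⟩ := hV.exists_prime_isPGroup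
  have := Fact.mk hr
  obtain ⟨S, hSX, hwS, hcop, hbot⟩ := h.exists_fpf hV hVr hc
  have hn : ∀ A : Subgroup G, A ≤ normalizer (V : Set G) := fun A => by
    rw [normalizer_eq_top]; exact le_top
  set D := zpowers w with hD
  set U : Subgroup G := (V ⊓ Y) ⊔ ⁅V, D⁆ with hU
  have hVD : ⁅V, D⁆ ≤ V := commutator_le_left _ _
  have hUV : U ≤ V := sup_le inf_le_left hVD
  have hVn : V ≤ normalizer ((⁅V, D⁆ : Subgroup G) : Set G) := normalizer_commutator_ge_left _ _
  -- `C_S(w)` acts trivially on `V / U`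
  have hα : S ⊓ centralizer (D : Set G) ≤ secC V U hUV := by
    intro c hc
    refine ⟨hn ⊤ (mem_top c), fun v hv => ?_⟩
    rw [← coprime_commutator_sup_centralizer (hn D) (h.cop' hVX) (h.solv' hVX)] at hv
    obtain ⟨v2, hv2, v1, hv1, rfl⟩ :=
      (Transfer.mem_sup_iff_of_le_normalizer' (inf_le_left.trans hVn)).1 hv
    have hcn : c ∈ normalizer ((⁅V, D⁆ : Subgroup G) : Set G) :=
      le_normalizer_commutator (hn _) (centralizer_le_normalizer _) hc.2
    have e : ⁅v2 * v1, c⁆ = (v2 * (⁅v1, c⁆ * (c * v2⁻¹ * c⁻¹) * ⁅v1, c⁆⁻¹)) * ⁅v1, c⁆ := by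
      simp only [commutatorElement_def]; group
    have h1 : ⁅v1, c⁆ ∈ V := commutator_le_left V ⊤ (commutator_mem_commutator hv1.1 (mem_top c))
    rw [e]
    refine mul_mem (mem_sup_right (mul_mem hv2 (conj_mem_of_le_normalizer hVn h1
      ((mem_normalizer_iff.1 hcn _).1 (inv_mem hv2))))) (mem_sup_left ⟨h1, ?_⟩)
    obtain ⟨y, hy, n, hn', rfl⟩ := h.quot V hV.normal hVX hV.ne_bot c ⟨hSX hc.1, hc.2⟩
    have e2 : ⁅v1, y * n⁆ = v1 * y * v1⁻¹ * y⁻¹ := by
      have := setLike_mul_comm (s := V) hv1.1 hn'.1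
      calc ⁅v1, y * n⁆ = v1 * y * (n * v1⁻¹ * n⁻¹) * y⁻¹ := by
            simp only [commutatorElement_def]; group
        _ = _ := by rw [show n * v1⁻¹ * n⁻¹ = v1⁻¹ by
                      rw [mul_inv_eq_iff_eq_mul, mul_inv_eq_iff_eq_mul, mul_assoc, ← this]; group]
    change _ ∈ Y
    rw [e2]
    exact mul_mem (conj_mem_of_le_normalizer h.normY ⟨hVX hv1.1, hv1.2⟩ hy) (inv_mem hy)
  -- so does `⟨w, w^x⟩ ∩ S`
  have hβ : ∀ x ∈ S, TwoGen.gen w x 1 ⊓ S ≤ secC V U hUV := by
    intro x hx
    set R := TwoGen.gen w x 1 ⊓ S with hR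
    have hDR : D ≤ normalizer (R : Set G) :=
      le_normalizer_inf ((zpowers_le_gen w x 1).trans le_normalizer) hwS
    have hcopR : (Nat.card R).Coprime (Nat.card V) :=
      coprime_card_of_le inf_le_right le_rfl hcop
    refine (le_secC_iff hUV).2 ⟨hn _, ?_⟩
    have hV1 : ⁅V, R⁆ ≤ V := commutator_le_left _ _
    rw [← coprime_commutator_sup_centralizer (le_normalizer_commutator (hn D) hDR)
      (h.cop' (hV1.trans hVX)) (h.solv' (hV1.trans hVX))]
    refine sup_le ((commutator_mono hV1 le_rfl).trans le_sup_right) fun c hc => ?_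
    refine mem_sup_left ⟨hV1 hc.1, h.gen x (hSX hx) c ⟨hVX (hV1 hc.1), hc.2⟩
      ⟨⟨hVX (hV1 hc.1), hc.2⟩, ?_⟩⟩
    set L := TwoGen.gen w x c with hL
    have hRL : R ≤ L := inf_le_left.trans (gen_one_le w x c)
    set V0 : Subgroup G := ⁅V, R⁆ ⊓ normalizer (L : Set G) with hV0
    have hV0V : V0 ≤ V := inf_le_left.trans hV1
    have hRV0 : R ≤ normalizer (V0 : Set G) :=
      le_normalizer_inf (normalizer_commutator_ge_right _ _)
        ((hRL.trans le_normalizer).trans le_normalizer)
    have h1 := coprime_commutator_sup_centralizer hRV0 (coprime_card_of_le le_rfl hV0V hcopR)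
      (Or.inr (isSolvable_of_le hV0V inferInstance))
    have h2 : V0 ⊓ centralizer (R : Set G) = ⊥ := by
      refine le_bot_iff.1 (le_trans ?_ (coprime_centralizer_inf_commutator (hn R) hcopR).le)
      exact le_inf (inf_le_inf_right _ hV0V) (inf_le_left.trans inf_le_left)
    rw [h2, sup_bot_eq] at h1
    have h3 : ⁅V0, R⁆ ≤ L := (commutator_mono inf_le_right hRL).trans
      (le_normalizer_iff_commutator_le_right.1 le_rfl)
    exact h3 (h1.ge ⟨hc.1, mem_normalizer_gen w x c⟩)
  have hS : S ≤ secC V U hUV := by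
    rw [← coprime_commutator_sup_centralizer hwS (h.cop' hSX) (h.solv' hSX)]
    refine sup_le (commutator_le.2 fun x hx d hd => hβ x hx ⟨commutator_mem_gen w x 1 hd, ?_⟩) hα
    exact le_normalizer_iff_commutator_le_left.1 hwS (commutator_mem_commutator hx hd)
  have hVU : V ≤ U := by
    have := coprime_centralizer_sup_commutator (hn S) hcop
    rw [hbot, bot_sup_eq] at this
    exact this.ge.trans ((le_secC_iff hUV).1 hS).2
  refine h.not_le hV.normal hVX hV.ne_bot fun c hc => ?_
  obtain ⟨a, ha, b, hb, rfl⟩ :=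
    (Transfer.mem_sup_iff_of_le_normalizer (inf_le_left.trans hVn)).1 (hVU hc.1)
  have hb1 : b = 1 := by
    have : b ∈ V ⊓ centralizer (D : Set G) ⊓ ⁅V, D⁆ :=
      ⟨⟨hVD hb, (Subgroup.mul_mem_cancel_left _ (h.le ha.2).2).1 hc.2⟩, hb⟩
    rwa [coprime_centralizer_inf_commutator (hn D) (h.cop' hVX), mem_bot] at this
  rw [hb1, mul_one]
  exact ha.2

omit [Finite G] in
theorem le_center_of (h : LMin w X Y) {V : Subgroup G} (h1 : X ≤ centralizer (V : Set G))
    (h2 : V ≤ centralizer (zpowers w : Set G)) : V ≤ center G := by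
  have : (⊤ : Subgroup G) ≤ centralizer (V : Set G) :=
    h.top ▸ sup_le h1 (le_centralizer_iff.1 h2)
  intro v hv
  rw [mem_center_iff]
  exact fun g => (mem_centralizer_iff.1 (this (mem_top g)) v hv).symm

theorem le_center_of_min (h : LMin w X Y) {V : Subgroup G} (hV : IsMinNormal V)
    (hVX : V ≤ X) : V ≤ center G := by
  have h1 := h.le_centralizer_of_min hV hVX
  have := hV.normal
  refine h.le_center_of h1 ?_
  have hn : (V ⊓ centralizer (zpowers w : Set G)).Normal := by
    refine h.normal_of ((h1.trans (centralizer_le inf_le_left)).trans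
      (centralizer_le_normalizer _)) ?_
    exact le_normalizer_inf (by rw [normalizer_eq_top]; exact le_top)
      (le_normalizer_centralizer le_normalizer)
  rcases hV.eq_bot_or_eq _ hn inf_le_left with h0 | h0
  · exact absurd (h0 ▸ bot_le) (h.not_le hV.normal hVX hV.ne_bot)
  · exact h0 ▸ inf_le_right

theorem center_inf_eq_bot (h : LMin w X Y) : center G ⊓ Y = ⊥ := by
  by_contra h0
  exact h.not_le (normal_of_le_center inf_le_left) (inf_le_right.trans (h.le.trans inf_le_left))
    h0 (inf_le_left.trans inf_le_right)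

theorem inf_center_le (h : LMin w X Y) {V : Subgroup G} (hV : IsMinNormal V) (hVX : V ≤ X) :
    X ⊓ center G ≤ V := by
  intro z hz
  obtain ⟨y, hy, v, hv, rfl⟩ := h.quot V hV.normal hVX hV.ne_bot z
    ⟨hz.1, center_le_centralizer _ hz.2⟩
  have : y ∈ center G ⊓ Y :=
    ⟨(mul_mem_cancel_right (h.le_center_of_min hV hVX hv.1)).1 hz.2, hy⟩
  rw [h.center_inf_eq_bot, mem_bot] at this
  rw [this, one_mul]
  exact hv.1

theorem le_of_normal (h : LMin w X Y) {V : Subgroup G} (hV : IsMinNormal V) (hVX : V ≤ X)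
    {N : Subgroup G} (hN : N.Normal) (hNX : N ≤ X) (h0 : N ≠ ⊥) : V ≤ N := by
  obtain ⟨V', hV', hle⟩ := exists_isMinNormal_le N h0
  have h1 : V' ≤ V := (le_inf (hle.trans hNX) (h.le_center_of_min hV' (hle.trans hNX))).trans
    (h.inf_center_le hV hVX)
  exact (hV.eq_of_le hV'.normal h1 hV'.ne_bot).ge.trans hle

theorem not_le_Y (h : LMin w X Y) {V : Subgroup G} (hV : IsMinNormal V) (hVX : V ≤ X) :
    ¬ V ≤ Y := fun H => h.not_le hV.normal hVX hV.ne_bot (inf_le_left.trans H)

theorem isPGroup (h : LMin w X Y) {V : Subgroup G} (hV : IsMinNormal V) (hVX : V ≤ X)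
    {r : ℕ} [hr : Fact r.Prime] (hVr : IsPGroup r V) : IsPGroup r X := by
  have := h.normal
  have := hV.normal
  obtain ⟨S, hSX, hSc, hwS⟩ := coprime_exists_invariant_sylow h.norm h.cop (h.solv' le_rfl) r
  have hSp : IsPGroup r S := IsPGroup.of_card hSc
  by_contra hX
  have hlt : S < X := lt_of_le_of_ne hSX fun he => hX (he ▸ hSp)
  obtain ⟨S', hS'⟩ := exists_sylow_map_subtype_eq hSX hSc
  have hSyl : Transfer.IsSylowIn r S X := hS' ▸ Transfer.isSylowIn_map_subtype S'
  have hVS : V ≤ S := by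
    have := hSyl.eq_of_le (hSp.to_sup_of_normal_right hVr) le_sup_left (sup_le hSX hVX)
    exact this ▸ le_sup_right
  have hrX : r ∣ Nat.card X := by
    rcases hVr.card_eq_or_dvd with h1 | h1
    · exact absurd (card_eq_one.1 h1) hV.ne_bot
    · exact h1.trans (card_dvd_of_le hVX)
  have hcop : (Nat.card S).Coprime S.index := by
    rw [hSc]
    refine Nat.Coprime.pow_left _ ((Nat.Prime.coprime_iff_not_dvd hr.out).2 fun hd => ?_)
    rw [← relIndex_mul_index hSX] at hd
    rcases (Nat.Prime.dvd_mul hr.out).1 hd with h1 | h1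
    · exact hSyl.not_dvd h1
    · have h2 := h1.trans (index_dvd_card_of_sup_eq_top' (by rw [sup_comm]; exact h.top))
      exact hr.out.one_lt.ne' (Nat.eq_one_of_dvd_coprimes h.cop h2 hrX)
  have hVc := h.le_center_of_min hV hVX
  have h1 : V ≤ ⁅S, S⁆ := by
    refine le_trans (le_inf (le_inf hVS ?_) hVc) (Focal.inf_commutator_inf_center_le S hcop)
    exact hVX.trans (h.comm.ge.trans (commutator_mono le_top le_top))
  have h2 := commutator_sup_le (normalizer_commutator_ge_left S (zpowers w))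
    (coprime_commutator_sup_centralizer hwS (h.cop' hSX) (h.solv' hSX))
  set E := S ⊓ centralizer (zpowers w : Set G) with hE
  have hEY : ⁅E, E⁆ ≤ Y := by
    refine commutator_le.2 fun a ha b hb => ?_
    obtain ⟨y, hy, v, hv, rfl⟩ := h.quot V hV.normal hVX hV.ne_bot a ⟨hSX ha.1, ha.2⟩
    have e : ⁅y * v, b⁆ = y * (b * y⁻¹ * b⁻¹) := by
      have := mem_center_iff.1 (hVc hv.1) b
      calc ⁅y * v, b⁆ = y * (v * b) * v⁻¹ * y⁻¹ * b⁻¹ := by
            simp only [commutatorElement_def]; group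
        _ = _ := by rw [← this]; group
    rw [e]
    exact mul_mem hy (conj_mem_of_le_normalizer h.normY ⟨hSX hb.1, hb.2⟩ (inv_mem hy))
  refine h.not_le_Y hV hVX fun v hv => ?_
  obtain ⟨b, hb, e, he, rfl⟩ := (Transfer.mem_sup_iff_of_le_normalizer'
    (((commutator_le_self E).trans inf_le_left).trans
      (normalizer_commutator_ge_left S (zpowers w)))).1 (h2 (h1 hv))
  refine mul_mem (h.sub S hlt hwS ⟨hb, ?_⟩) (hEY he)
  exact (Subgroup.mul_mem_cancel_right _ (h.le (hEY he)).2).1 (center_le_centralizer _ (hVc hv))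

theorem inf_centralizer_le (h : LMin w X Y) {V : Subgroup G} (hV : IsMinNormal V) (hVX : V ≤ X) :
    X ⊓ centralizer (X : Set G) ≤ V := by
  have := h.normal
  set Z : Subgroup G := X ⊓ centralizer (X : Set G) with hZ
  have hZc : IsMulCommutative Z := le_centralizer_iff_isMulCommutative.1
    (inf_le_right.trans (centralizer_le inf_le_left))
  have hn : zpowers w ≤ normalizer (Z : Set G) := by rw [normalizer_eq_top]; exact le_top
  have hZD : ⁅Z, zpowers w⁆ ≤ Z := commutator_le_left _ _
  have h0 : ⁅Z, zpowers w⁆ = ⊥ := by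
    by_contra h0
    refine h.not_le (h.normal_of ?_ (normalizer_commutator_ge_right _ _)) (hZD.trans inf_le_left)
      h0 (le_trans (le_trans ?_ (coprime_centralizer_inf_commutator hn (h.cop' inf_le_left)).le)
        bot_le)
    · exact (le_centralizer_iff.1 (hZD.trans inf_le_right)).trans (centralizer_le_normalizer _)
    · exact le_inf (inf_le_inf_right _ hZD) inf_le_left
  refine le_trans (le_inf inf_le_left ?_) (h.inf_center_le hV hVX)
  exact h.le_center_of (le_centralizer_iff.1 inf_le_right) (commutator_eq_bot_iff_le_centralizer.1 h0)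

theorem inf_gen_eq_bot (h : LMin w X Y) {V : Subgroup G} (hV : IsMinNormal V) (hVX : V ≤ X)
    {x : G} (hx : x ∈ X) : V ⊓ TwoGen.gen w x 1 = ⊥ := by
  have hVc := h.le_center_of_min hV hVX
  refine (hV.eq_bot_or_eq _ (normal_of_le_center (inf_le_left.trans hVc)) inf_le_left).resolve_right
    fun he => h.not_le_Y hV hVX (le_trans ?_ (h.gen x hx 1 (one_mem _)))
  exact le_inf (le_inf hVX (hVc.trans (center_le_centralizer _))) (he ▸ inf_le_right)

theorem commutator_mem (h : LMin w X Y) {x : G} (hx : x ∈ X) :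
    ⁅x, w⁆ ∈ ⁅TwoGen.gen w x 1 ⊓ X, zpowers w⁆ := by
  obtain ⟨n, hn, c, hc, rfl⟩ := coprime_fixed_mod (A := zpowers w) (K := X)
    (N := TwoGen.gen w x 1 ⊓ X)
    (le_normalizer_inf ((zpowers_le_gen w x 1).trans le_normalizer) h.norm)
    (h.cop' inf_le_right) (h.solv' inf_le_right) inf_le_right hx (fun d hd => by
      have h1 : d * x * d⁻¹ * x⁻¹ = ⁅x, d⁆⁻¹ := by simp only [commutatorElement_def]; group
      rw [h1]
      exact inv_mem ⟨commutator_mem_gen w x 1 hd,
        le_normalizer_iff_commutator_le_left.1 h.norm (commutator_mem_commutator hx hd)⟩)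
  have : ⁅n * c, w⁆ = ⁅n, w⁆ := by
    have := mem_centralizer_zpowers.1 hc.2
    calc ⁅n * c, w⁆ = n * (c * w) * c⁻¹ * n⁻¹ * w⁻¹ := by simp only [commutatorElement_def]; group
      _ = _ := by rw [← this]; simp only [commutatorElement_def]; group
  rw [this]
  exact commutator_mem_commutator hn (mem_zpowers w)

/-- the key commutation -/
theorem commute_of (h : LMin w X Y) {V : Subgroup G} (hV : IsMinNormal V) (hVX : V ≤ X)
    {B : Subgroup G} (hBX : B ≤ X) (hXB : ⁅X, B⁆ ≤ V) (hwB : zpowers w ≤ normalizer (B : Set G))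
    (hB : ⁅B, zpowers w⁆ = B) {x : G} (hx : x ∈ X) (hxB : ⁅x, w⁆ ∉ centralizer (B : Set G)) :
    ⁅x, w⁆ * (w * ⁅x, w⁆ * w⁻¹) = (w * ⁅x, w⁆ * w⁻¹) * ⁅x, w⁆ := by
  have hVc := h.le_center_of_min hV hVX
  have hn : zpowers w ≤ normalizer ((TwoGen.gen w x 1 ⊓ X : Subgroup G) : Set G) :=
    le_normalizer_inf ((zpowers_le_gen w x 1).trans le_normalizer) h.norm
  set R : Subgroup G := ⁅TwoGen.gen w x 1 ⊓ X, zpowers w⁆ with hR
  have hRle : R ≤ TwoGen.gen w x 1 ⊓ X := le_normalizer_iff_commutator_le_left.1 hn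
  have hRX : R ≤ X := hRle.trans inf_le_right
  have hwR : zpowers w ≤ normalizer (R : Set G) := normalizer_commutator_ge_right _ _
  have hRR : ⁅R, zpowers w⁆ = R :=
    coprime_commutator_commutator hn (h.cop' inf_le_right) (h.solv' inf_le_right)
  have hg : ⁅x, w⁆ ∈ R := h.commutator_mem hx
  have hRB : ⁅R, B⁆ ≤ V := (commutator_mono hRX le_rfl).trans hXB
  have hRBV : ⁅R, B⁆ = V := by
    refine hV.eq_of_le (normal_of_le_center (hRB.trans hVc)) hRB fun h0 => hxB ?_
    exact commutator_eq_bot_iff_le_centralizer.1 h0 hg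
  have hsup : R ⊔ B = X := by
    by_contra hne
    refine h.not_le_Y hV hVX (le_trans (le_inf ?_ (hVc.trans (center_le_centralizer _)))
      (h.sub (R ⊔ B) (lt_of_le_of_ne (sup_le hRX hBX) hne) (le_normalizer_sup hwR hwB)))
    refine hRBV.ge.trans ((commutator_le_sup _ _).trans (sup_le ?_ ?_))
    · exact hRR.ge.trans (commutator_mono le_sup_left le_rfl)
    · exact hB.ge.trans (commutator_mono le_sup_right le_rfl)
  have h3 : ⁅⁅R, R⁆, B⁆ = ⊥ := by
    have : ⁅⁅R, B⁆, R⁆ = ⊥ :=
      commutator_eq_bot_iff_le_centralizer.2 ((hRB.trans hVc).trans (center_le_centralizer _))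
    exact commutator_commutator_eq_bot_of_rotate this (by rwa [commutator_comm B R])
  have h4 : ⁅R, R⁆ = ⊥ := by
    by_contra h0
    have hnorm : (⁅R, R⁆ : Subgroup G).Normal := by
      refine h.normal_of ?_ (le_normalizer_commutator hwR hwR)
      rw [← hsup]
      exact sup_le (normalizer_commutator_ge_left _ _) ((le_centralizer_iff.1
        (commutator_eq_bot_iff_le_centralizer.1 h3)).trans (centralizer_le_normalizer _))
    have h5 := h.le_of_normal hV hVX hnorm ((commutator_le_self R).trans hRX) h0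
    exact hV.ne_bot (le_bot_iff.1 ((le_inf le_rfl
      (h5.trans ((commutator_le_self R).trans (hRle.trans inf_le_left)))).trans
        (h.inf_gen_eq_bot hV hVX hx).le))
  have := commutator_self_eq_bot_iff.1 h4
  exact setLike_mul_comm hg (conj_mem_of_le_normalizer hwR (mem_zpowers w) hg)

theorem false (h : LMin w X Y) : False := by
  have hX0 : X ≠ ⊥ := fun h0 => h.ne (by rw [h0]; exact inf_le_left.trans bot_le)
  have := h.normal
  have := h.solv
  obtain ⟨V, hV, hVX⟩ := exists_isMinNormal_le X hX0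
  have := hV.normal
  have := isSolvable_of_le hVX h.solv
  obtain ⟨r, hr, hVr, -, -⟩ := hV.exists_prime_isPGroup
  have := Fact.mk hr
  have hXr := h.isPGroup hV hVX hVr
  have hVc := h.le_center_of_min hV hVX
  have hZ := h.inf_centralizer_le hV hVX
  set D := zpowers w with hD
  set A : Subgroup G := X ⊓ secC X V hVX with hA
  have hXA : ⁅X, A⁆ ≤ V := ((le_secC_iff hVX).1 inf_le_right).2
  have hAn : A.Normal := ⟨fun a ha g => ⟨h.normal.conj_mem a ha.1 g, by
    refine ⟨by rw [normalizer_eq_top]; exact mem_top _, fun v hv => ?_⟩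
    have e : ⁅v, g * a * g⁻¹⁆ = g * ⁅g⁻¹ * v * g, a⁆ * g⁻¹ := by
      simp only [commutatorElement_def]; group
    rw [e]
    exact hV.normal.conj_mem _ (ha.2.2 _ (h.normal.conj_mem' v hv g)) g⟩⟩
  have hCA : A ⊓ centralizer (D : Set G) ≤ V := by
    refine le_trans (le_inf (inf_le_left.trans inf_le_left) ?_) hZ
    rw [← commutator_eq_bot_iff_le_centralizer, commutator_comm, ← h.comm]
    refine commutator_commutator_eq_bot_of_rotate ?_ ?_
    · rw [commutator_comm D, commutator_eq_bot_iff_le_centralizer.2 inf_le_right,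
        commutator_bot_left]
    · refine commutator_eq_bot_iff_le_centralizer.2 (le_trans ?_ (center_le_centralizer _))
      rw [commutator_comm]
      exact ((commutator_mono le_rfl inf_le_left).trans hXA).trans hVc
  obtain ⟨a, ha, haV⟩ : ∃ a ∈ A, a ∉ V := by
    have := hXr.isNilpotent
    obtain ⟨a, -, ha1, ha2⟩ := exists_central_mod_of_isNilpotent (V.subgroupOf X) ⊤ (fun H => by
      apply hX0
      have h1 : X ≤ V := fun x hx => H (mem_top (⟨x, hx⟩ : X))
      rw [← h.comm, commutator_eq_bot_iff_le_centralizer]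
      exact (h1.trans hVc).trans (center_le_centralizer _))
    exact ⟨a, ⟨a.2, le_normalizer a.2, fun v hv => ha2 ⟨v, hv⟩⟩, ha1⟩
  set B : Subgroup G := TwoGen.gen w a 1 ⊓ A with hB
  have hBX : B ≤ X := inf_le_right.trans inf_le_left
  have hXB : ⁅X, B⁆ ≤ V := (commutator_mono le_rfl inf_le_right).trans hXA
  have hnA : D ≤ normalizer (A : Set G) := by rw [normalizer_eq_top]; exact le_top
  have hwB : D ≤ normalizer (B : Set G) :=
    le_normalizer_inf ((zpowers_le_gen w a 1).trans le_normalizer) hnA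
  have hK := h.inf_gen_eq_bot hV hVX ha.1
  have hBc : IsMulCommutative B := by
    rw [← commutator_self_eq_bot_iff, ← le_bot_iff, ← hK]
    exact le_inf ((commutator_mono hBX le_rfl).trans hXB)
      ((commutator_le_self B).trans inf_le_left)
  have hCB : B ⊓ centralizer (D : Set G) = ⊥ := by
    rw [← le_bot_iff, ← hK]
    exact le_inf ((inf_le_inf_right _ inf_le_right).trans hCA) (inf_le_left.trans inf_le_left)
  have hBD : ⁅B, D⁆ = B := by
    have := coprime_commutator_sup_centralizer hwB (h.cop' hBX) (h.solv' hBX)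
    rwa [hCB, sup_bot_eq] at this
  have hBV : ¬ B ≤ V := by
    intro H
    apply haV
    obtain ⟨n, hn, c, hc, rfl⟩ := coprime_fixed_mod (A := D) (K := A) (N := V)
      (by rw [normalizer_eq_top]; exact le_top) (h.cop' hVX) (h.solv' hVX)
      (le_inf hVX ((le_secC_iff hVX).2 ⟨hVX.trans le_normalizer, commutator_le_right _ _⟩)) ha
      (fun d hd => by
        have h1 : d * a * d⁻¹ * a⁻¹ = ⁅a, d⁆⁻¹ := by simp only [commutatorElement_def]; group
        rw [h1]
        exact inv_mem (H ⟨commutator_mem_gen w a 1 hd,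
          commutator_le_left A D (commutator_mem_commutator ha hd)⟩))
    exact mul_mem hn (hCA hc)
  have hcomm : ∀ x ∈ X, ∀ b ∈ B, ∃ v ∈ center G, x * b = v * b * x := fun x hx b hb =>
    ⟨⁅x, b⁆, hVc (hXB (commutator_mem_commutator hx hb)), by
      simp only [commutatorElement_def]; group⟩
  obtain ⟨x, hx, hxB⟩ : ∃ x ∈ X, ⁅x, w⁆ ∉ centralizer (B : Set G) := by
    by_contra hcon
    push Not at hcon
    apply hBV
    have h1 : D ≤ secC X (X ⊓ centralizer (B : Set G)) inf_le_left := by
      refine zpowers_le.2 ⟨h.norm (mem_zpowers w), fun x hx => ⟨?_, hcon x hx⟩⟩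
      exact commutator_le_left X D (commutator_mem_commutator hx (mem_zpowers w))
    have h2 := ((le_secC_iff _).1 h1).2
    rw [h.comm] at h2
    exact (le_inf hBX (le_centralizer_iff.1 (h2.trans inf_le_right))).trans hZ
  apply hxB
  set g := ⁅x, w⁆ with hg
  have hgX : g ∈ X := commutator_le_left X D (commutator_mem_commutator hx (mem_zpowers w))
  have hc1 : g * (w * g * w⁻¹) = (w * g * w⁻¹) * g :=
    h.commute_of hV hVX hBX hXB hwB hBD hx hxB
  have hw1 : ∀ b ∈ B, b * w = w * b → b = 1 := fun b hb hbw => by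
    have : b ∈ B ⊓ centralizer (D : Set G) := ⟨hb, mem_centralizer_zpowers.2 hbw.symm⟩
    rwa [hCB, mem_bot] at this
  have hw2 : ∀ b ∈ B, b * w ^ 2 = w ^ 2 * b → b = 1 := fun b hb hbw => by
    refine hw1 b hb ?_
    obtain ⟨i, hi⟩ : w ∈ zpowers (w ^ 2) :=
      mem_zpowers_pow_iff.2 (Nat.coprime_two_left.2 h.odd)
    have := ((show Commute b (w ^ 2) from hbw).zpow_right i).eq
    simp only at hi
    rwa [hi] at this
  rw [mem_centralizer_iff]
  intro b'' hb''
  obtain ⟨c, hc, rfl⟩ := exists_commutator_eq (hwB (pow_mem (mem_zpowers w) 2)) hw2 hb''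
  have hb : w * c⁻¹ * w⁻¹ ∈ B := conj_mem_of_le_normalizer hwB (mem_zpowers w) (inv_mem hc)
  obtain ⟨a', ha', hab⟩ := exists_commutator_eq (hwB (mem_zpowers w)) hw1 hb
  set b := w * c⁻¹ * w⁻¹ with hbdef
  obtain ⟨v, hv, hv'⟩ := hcomm g hgX a'⁻¹ (inv_mem ha')
  have hvc := mem_center_iff.1 hv
  have hg' : ⁅a' * x, w⁆ = v * g * b := by
    calc ⁅a' * x, w⁆ = a' * (g * a'⁻¹) * ⁅a', w⁆ := by
          simp only [hg, commutatorElement_def]; group
      _ = (a' * v) * a'⁻¹ * g * b := by rw [hv', hab]; group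
      _ = v * g * b := by rw [hvc]; group
  have hc2 := h.commute_of hV hVX hBX hXB hwB hBD (mul_mem (hBX ha') hx) (by
    rw [hg']
    intro H
    exact hxB ((Subgroup.mul_mem_cancel_left _ (center_le_centralizer _ hv)).1
      ((Subgroup.mul_mem_cancel_right _ (le_centralizer B hb)).1 H)))
  rw [hg'] at hc2
  have hbw : w * b * w⁻¹ ∈ B := conj_mem_of_le_normalizer hwB (mem_zpowers w) hb
  obtain ⟨v1, hv1, e1⟩ := hcomm g hgX c⁻¹ (inv_mem hc)
  obtain ⟨v2, hv2, e2⟩ := hcomm g hgX _ hbw
  have hv1c := mem_center_iff.1 hv1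
  have hv2c := mem_center_iff.1 hv2
  set g' := w * g * w⁻¹ with hg'def
  set b' := w * b * w⁻¹ with hb'def
  have e3 : g' * b = v1 * b * g' := by
    calc g' * b = w * (g * c⁻¹) * w⁻¹ := by rw [hg'def, hbdef]; group
      _ = (w * v1) * c⁻¹ * g * w⁻¹ := by rw [e1]; group
      _ = _ := by rw [hv1c, hg'def, hbdef]; group
  have e4 : w * (v * g * b) * w⁻¹ = v * g' * b' := by
    calc w * (v * g * b) * w⁻¹ = (w * v) * g * b * w⁻¹ := by group
      _ = _ := by rw [hvc, hg'def, hb'def]; group
  have hbb : b * b' = b' * b := setLike_mul_comm hb hbw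
  rw [e4] at hc2
  have e5 : g * b * g' * b' = g' * b' * g * b := by
    have l1 : v * g * b * (v * g' * b') = v * v * (g * b * g' * b') := by
      calc v * g * b * (v * g' * b') = v * ((g * b) * v) * g' * b' := by group
        _ = _ := by rw [hvc]; group
    have l2 : v * g' * b' * (v * g * b) = v * v * (g' * b' * g * b) := by
      calc v * g' * b' * (v * g * b) = v * ((g' * b') * v) * g * b := by group
        _ = _ := by rw [hvc]; group
    rw [l1, l2] at hc2
    exact mul_left_cancel hc2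
  have e6 : v1 = v2 := by
    have l1 : v1 * v2 * (g * b * g' * b') = v2 * (g * g' * (b * b')) := by
      calc v1 * v2 * (g * b * g' * b') = (v1 * (v2 * g)) * b * g' * b' := by group
        _ = v2 * g * (v1 * b * g') * b' := by rw [← hv1c]; group
        _ = _ := by rw [← e3]; group
    have l2 : v1 * v2 * (g' * b' * g * b) = v1 * (g * g' * (b * b')) := by
      calc v1 * v2 * (g' * b' * g * b) = v1 * (v2 * g') * b' * g * b := by group
        _ = v1 * g' * (v2 * b' * g) * b := by rw [← hv2c]; group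
        _ = v1 * (g' * g) * (b' * b) := by rw [← e2]; group
        _ = _ := by rw [← hc1, ← hbb]; group
    rw [e5, l2] at l1
    exact mul_right_cancel l1
  have e7 : ⁅c, w ^ 2⁆ = c * b' := by
    rw [hb'def, hbdef, commutatorElement_def, pow_two]; group
  rw [e7]
  have e8 : c * g = v1 * g * c := by
    calc c * g = c * (g * c⁻¹) * c := by group
      _ = (c * v1) * c⁻¹ * g * c := by rw [e1]; group
      _ = _ := by rw [hv1c]; group
  calc c * b' * g = c * v2⁻¹ * (v2 * b' * g) := by group
    _ = c * v1⁻¹ * g * b' := by rw [← e2, e6]; group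
    _ = v1⁻¹ * (c * g) * b' := by
        rw [show c * v1⁻¹ = v1⁻¹ * c from mem_center_iff.1 (inv_mem hv1) c]; group
    _ = g * (c * b') := by rw [e8]; group

end LMin

universe u in
theorem LHyp.le_aux (n : ℕ) : ∀ (G : Type u) [Group G] [Finite G] (w : G) (X Y : Subgroup G),
    Nat.card X = n → LHyp w X Y → X ⊓ centralizer (zpowers w : Set G) ≤ Y := by
  induction n using Nat.strong_induction_on with
  | _ n ih =>
  suffices H : ∀ (G : Type u) [Group G] [Finite G] (w : G) (X Y : Subgroup G),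
      Nat.card X = n → LHyp w X Y → X.Normal → X ⊔ zpowers w = ⊤ →
      X ⊓ centralizer (zpowers w : Set G) ≤ Y by
    intro G _ _ w X Y hn h c hc
    have hw : w ∈ X ⊔ zpowers w := mem_sup_right (mem_zpowers w)
    have h1 := H _ _ _ _ (by rw [card_subgroupOf_eq_of_le le_sup_left, hn])
      (h.subgroupOf_hyp le_sup_left hw)
      (normal_subgroupOf_of_le_normalizer (sup_le le_normalizer h.norm)) (by
        apply map_injective (X ⊔ zpowers w).subtype_injective
        rw [Subgroup.map_sup, map_subgroupOf_eq_of_le le_sup_left, MonoidHom.map_zpowers,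
          ← MonoidHom.range_eq_map, range_subtype]
        rfl)
    exact h1 (x := ⟨c, mem_sup_left hc.1⟩) ⟨hc.1, mem_centralizer_zpowers.2
      (Subtype.ext (mem_centralizer_zpowers.1 hc.2))⟩
  intro G _ _ w X Y hn h hXn htop
  by_contra hne
  refine LMin.false (w := w) (X := X) (Y := Y) ⟨h, hXn, htop, ?_, ?_, hne⟩
  · intro N hN hNX h0 c hc
    have hker : (QuotientGroup.mk' N).ker ≤ X := (QuotientGroup.ker_mk' N).le.trans hNX
    have hlt : Nat.card (X.map (QuotientGroup.mk' N)) < n := by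
      have h1 := card_comap_of_surjective (QuotientGroup.mk'_surjective N)
        (X.map (QuotientGroup.mk' N))
      rw [comap_map_eq, sup_eq_left.2 hker, QuotientGroup.ker_mk', hn] at h1
      have h2 : 1 < Nat.card N := (one_lt_card_iff_ne_bot N).2 h0
      have h3 : 0 < Nat.card (X.map (QuotientGroup.mk' N)) := Nat.card_pos
      nlinarith
    have h1 := ih _ hlt _ _ _ _ rfl (h.map_hyp (QuotientGroup.mk' N) hker)
    obtain ⟨y, hy, he⟩ := h1 (x := QuotientGroup.mk' N c) ⟨mem_map_of_mem _ hc.1,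
      mem_centralizer_zpowers.2 (by rw [← map_mul, ← map_mul, mem_centralizer_zpowers.1 hc.2])⟩
    refine ⟨y, hy, y⁻¹ * c, ⟨QuotientGroup.eq.1 he, Subgroup.mul_mem _ (Subgroup.inv_mem _ (h.le hy).2) hc.2⟩,
      by group⟩
  · intro X₁ hlt hw
    have h1 : ⁅X₁, zpowers w⁆ ≤ X₁ := le_normalizer_iff_commutator_le_left.1 hw
    exact (ih _ (hn ▸ card_lt_of_lt (h1.trans_lt hlt)) _ _ _ _ rfl
      (h.sub_hyp hlt.le hw)).trans inf_le_left

/-- **Generation lemma.** -/
theorem LHyp.centralizer_le (h : LHyp w X Y) : X ⊓ centralizer (zpowers w : Set G) ≤ Y :=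
  LHyp.le_aux _ G w X Y rfl h

end CL.TwoGen
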