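import Cfsg.Agent.Base
import Cfsg.Agent.NGr.TwoGenL2
import Cfsg.Agent.PComp.Core
import Cfsg.Agent.Transfer.ThompsonCompl

/-!
# `O_{p',p}` of solvable subgroups (ambient form), for the two-generator theorem
-/

set_option autoImplicit false

namespace CL.TwoGen

open Subgroup Cfsg CL.Transfer CL.PComp
open scoped commutatorElement Pointwise

variable {G : Type*} [Group G] {p : ℕ}

/-- `p`-elements -/
def PElt (p : ℕ) (x : G) : Prop := ∃ k : ℕ, x ^ p ^ k = 1

theorem PElt.isPGroup {x : G} (h : PElt p x) : IsPGroup p (zpowers x) :=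
  let ⟨_, hk⟩ := h; Quad.isPGroup_zpowers_of_pow hk

theorem pElt_of_mem {P : Subgroup G} (hP : IsPGroup p P) {x : G} (hx : x ∈ P) : PElt p x :=
  let ⟨k, hk⟩ := hP ⟨x, hx⟩; ⟨k, congrArg Subtype.val hk⟩

theorem PElt.conj {x : G} (h : PElt p x) (g : G) : PElt p (g * x * g⁻¹) :=
  let ⟨k, hk⟩ := h; ⟨k, by rw [conj_pow, hk]; group⟩

theorem PElt.eq_one {x : G} (h : PElt p x) (h' : (orderOf x).Coprime p) : x = 1 :=
  let ⟨_, hk⟩ := h; eq_one_of_pow_eq_one_of_coprime hk h'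

theorem coprime_of_mem {O : Subgroup G} (hO : (Nat.card O).Coprime p) {x : G} (hx : x ∈ O) :
    (orderOf x).Coprime p :=
  Nat.Coprime.coprime_dvd_left (O.orderOf_dvd_natCard hx) hO

theorem PElt.eq_one_of_mem {O : Subgroup G} (hO : (Nat.card O).Coprime p) {x : G} (h : PElt p x)
    (hx : x ∈ O) : x = 1 := h.eq_one (coprime_of_mem hO hx)

theorem mem_of_pow_mem_of_coprime {H : Subgroup G} {c : G} (hc : (orderOf c).Coprime p) {k : ℕ}
    (h : c ^ p ^ k ∈ H) : c ∈ H :=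
  (zpowers_le.2 h) (mem_zpowers_pow_iff.2 (Nat.Coprime.pow_left k hc.symm))

theorem mem_zpowers_mul {w c : G} (hw : PElt p w) (hc : (orderOf c).Coprime p)
    (h : Commute w c) : w ∈ zpowers (w * c) ∧ c ∈ zpowers (w * c) := by
  obtain ⟨k, hk⟩ := hw
  have h1 : c ∈ zpowers (w * c) := by
    refine mem_of_pow_mem_of_coprime hc (k := k) ?_
    have : (w * c) ^ p ^ k = c ^ p ^ k := by rw [h.mul_pow, hk, one_mul]
    exact this ▸ pow_mem (mem_zpowers _) _
  exact ⟨(Subgroup.mul_mem_cancel_right _ h1).1 (mem_zpowers _), h1⟩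

variable [Finite G] [hp : Fact p.Prime]

theorem mem_of_mem_sup_of_coprime {X T : Subgroup G} (hT : IsPGroup p T)
    (hn : T ≤ normalizer (X : Set G)) {c : G} (hc : c ∈ X ⊔ T) (hc' : (orderOf c).Coprime p) :
    c ∈ X := by
  have hN : (X.subgroupOf (X ⊔ T)).Normal :=
    normal_subgroupOf_of_le_normalizer (sup_le le_normalizer hn)
  have h1 : (X.subgroupOf (X ⊔ T)).index ∣ Nat.card (T.subgroupOf (X ⊔ T)) := by
    refine index_dvd_card_of_sup_eq_top' ?_
    rw [sup_comm, ← subgroupOf_sup le_sup_left le_sup_right, subgroupOf_self]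
  rw [card_subgroupOf_eq_of_le le_sup_right] at h1
  obtain ⟨n, hn⟩ := IsPGroup.iff_card.1 hT
  obtain ⟨k, -, hk⟩ := (Nat.dvd_prime_pow hp.out).1 (hn ▸ h1)
  refine mem_of_pow_mem_of_coprime hc' (k := k) ?_
  have := (X.subgroupOf (X ⊔ T)).pow_index_mem ⟨c, hc⟩
  rwa [hk] at this

theorem isSylowIn_sup {O T : Subgroup G} (hO : (Nat.card O).Coprime p) (hT : IsPGroup p T)
    (hn : T ≤ normalizer (O : Set G)) : IsSylowIn p T (O ⊔ T) := by
  refine ⟨le_sup_right, hT, fun hd => ?_⟩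
  have hN : (O.subgroupOf (O ⊔ T)).Normal :=
    normal_subgroupOf_of_le_normalizer (sup_le le_normalizer hn)
  have h1 : (T.subgroupOf (O ⊔ T)).index ∣ Nat.card (O.subgroupOf (O ⊔ T)) := by
    refine index_dvd_card_of_sup_eq_top ?_
    rw [sup_comm, ← subgroupOf_sup le_sup_left le_sup_right, subgroupOf_self]
  rw [card_subgroupOf_eq_of_le le_sup_left] at h1
  exact hp.out.one_lt.ne' (Nat.eq_one_of_dvd_coprimes hO (hd.trans h1) dvd_rfl)

/-- two `p`-elements congruent modulo a normalized `p'`-group `O` are conjugate under `O` -/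
theorem exists_conj_of_mul_inv_mem {O : Subgroup G} (hO : (Nat.card O).Coprime p) {w a : G}
    (hw : PElt p w) (ha : PElt p a) (hn : w ∈ normalizer (O : Set G)) (h : a * w⁻¹ ∈ O) :
    ∃ o ∈ O, a = o * w * o⁻¹ := by
  have hn' : zpowers w ≤ normalizer (O : Set G) := zpowers_le.2 hn
  have hS := isSylowIn_sup hO hw.isPGroup hn'
  have haM : a ∈ O ⊔ zpowers w := by
    have := mul_mem (mem_sup_left h : _ ∈ O ⊔ zpowers w) (mem_sup_right (mem_zpowers w))
    rwa [inv_mul_cancel_right] at this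
  obtain ⟨g, hg, hga⟩ := hS.exists_conj_le ha.isPGroup (zpowers_le.2 haM)
  obtain ⟨d, hd, o, ho, rfl⟩ := (mem_sup_iff_of_le_normalizer hn').1 (sup_comm O _ ▸ hg)
  have h1 : d * o * a * (d * o)⁻¹ ∈ zpowers w := hga (Cj.conj_mem_conj _ (mem_zpowers a))
  have h2 : o * a * o⁻¹ ∈ zpowers w := by
    have := mul_mem (mul_mem (inv_mem hd) h1) hd
    rwa [show d⁻¹ * (d * o * a * (d * o)⁻¹) * d = o * a * o⁻¹ by group] at this
  have h3 : o * a * o⁻¹ * w⁻¹ = 1 := by
    refine (pElt_of_mem hw.isPGroup (mul_mem h2 (inv_mem (mem_zpowers w)))).eq_one_of_mem hO ?_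
    have : o * a * o⁻¹ * w⁻¹ = o * (a * w⁻¹) * (w * o⁻¹ * w⁻¹) := by group
    rw [this]
    exact mul_mem (mul_mem ho h) ((mem_normalizer_iff.1 hn _).1 (inv_mem ho))
  refine ⟨o⁻¹, inv_mem ho, ?_⟩
  rw [← mul_inv_eq_one.1 h3]; group

/-- `O_{p',p}(H)` as a subgroup of the ambient group -/
def Wc (p : ℕ) (H : Subgroup G) : Subgroup G := (pPrimePCore p H).map H.subtype

omit [Finite G] hp in
theorem Wc_le (H : Subgroup G) : Wc p H ≤ H := map_subtype_le _

omit [Finite G] hp in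
theorem le_normalizer_Wc (H : Subgroup G) : H ≤ normalizer (Wc p H : Set G) :=
  le_normalizer_map_subtype H _ (hL := by unfold pPrimePCore; infer_instance)

omit [Finite G] hp in
theorem ppCore_le_Wc (H : Subgroup G) : ppCore p H ≤ Wc p H :=
  map_mono pPrimeCore_le_pPrimePCore

omit [Finite G] hp in
theorem mem_Wc_iff {H : Subgroup G} {x : G} (hx : x ∈ H) :
    x ∈ Wc p H ↔ QuotientGroup.mk' (pPrimeCore p H) ⟨x, hx⟩ ∈ pCore p (H ⧸ pPrimeCore p H) := by
  constructor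
  · rintro ⟨y, hy, rfl⟩; exact hy
  · exact fun h => ⟨⟨x, hx⟩, h, rfl⟩

omit [Finite G] hp in
theorem mem_ppCore_iff {H : Subgroup G} {x : G} (hx : x ∈ H) :
    x ∈ ppCore p H ↔ QuotientGroup.mk' (pPrimeCore p H) ⟨x, hx⟩ = 1 := by
  rw [← MonoidHom.mem_ker, QuotientGroup.ker_mk']
  constructor
  · rintro ⟨y, hy, rfl⟩; exact hy
  · exact fun h => ⟨⟨x, hx⟩, h, rfl⟩

omit [Finite G] hp in
theorem exists_pow_mem_ppCore {H : Subgroup G} {x : G} (hx : x ∈ Wc p H) :
    ∃ k, x ^ p ^ k ∈ ppCore p H := by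
  have hxH := Wc_le H hx
  obtain ⟨k, hk⟩ := pElt_of_mem (pCore_isPGroup p _) ((mem_Wc_iff hxH).1 hx)
  refine ⟨k, (mem_ppCore_iff (pow_mem hxH _)).2 ?_⟩
  rw [← hk, ← map_pow]; rfl

omit [Finite G] hp in
theorem mem_ppCore_of_mem_Wc {H : Subgroup G} {x : G} (hx : x ∈ Wc p H)
    (h : (orderOf x).Coprime p) : x ∈ ppCore p H :=
  let ⟨_, hk⟩ := exists_pow_mem_ppCore hx; mem_of_pow_mem_of_coprime h hk

theorem pCore_le_map_of_isSylowIn {H T : Subgroup G} (hT : IsSylowIn p T H) :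
    pCore p (H ⧸ pPrimeCore p H) ≤ (T.subgroupOf H).map (QuotientGroup.mk' (pPrimeCore p H)) :=
  pCore_le_sylow (hT.toSylow.mapSurjective (QuotientGroup.mk'_surjective _))

theorem exists_mul_of_mem_Wc {H T : Subgroup G} (hT : IsSylowIn p T H) {x : G} (hx : x ∈ Wc p H) :
    ∃ o ∈ ppCore p H, ∃ t ∈ T, x = o * t := by
  have hxH := Wc_le H hx
  obtain ⟨t, ht, he⟩ := pCore_le_map_of_isSylowIn hT ((mem_Wc_iff hxH).1 hx)
  refine ⟨x * (t : G)⁻¹, (mem_ppCore_iff (mul_mem hxH (inv_mem t.2))).2 ?_, t, ht, by group⟩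
  change QuotientGroup.mk' (pPrimeCore p H) (⟨x, hxH⟩ * t⁻¹) = 1
  rw [map_mul, map_inv, he, mul_inv_cancel]

/-- a `p`-element of `O_{p',p}(H)` is conjugate into a given Sylow subgroup under `O_{p'}(H)` -/
theorem exists_conj_of_mem_Wc {H T : Subgroup G} (hT : IsSylowIn p T H) {x : G} (hx : x ∈ Wc p H)
    (hxp : PElt p x) : ∃ o ∈ ppCore p H, ∃ t ∈ T, x = o * t * o⁻¹ := by
  obtain ⟨o, ho, t, ht, rfl⟩ := exists_mul_of_mem_Wc hT hx
  obtain ⟨o', ho', he⟩ := exists_conj_of_mul_inv_mem (coprime_card_ppCore H)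
    (pElt_of_mem hT.isPGroup ht) hxp (le_normalizer_ppCore H (hT.le ht)) (by simpa using ho)
  exact ⟨o', ho', t, ht, he⟩

theorem centralizer_pCore_quot_le (H : Subgroup G) [Group.IsSolvable H] :
    centralizer (pCore p (H ⧸ pPrimeCore p H) : Set (H ⧸ pPrimeCore p H)) ≤
      pCore p (H ⧸ pPrimeCore p H) :=
  centralizer_pCore_le (pPrimeCore_quotient_pPrimeCore p H)

theorem mem_Wc_of_commutator_mem {H T : Subgroup G} [Group.IsSolvable H] (hT : IsSylowIn p T H)
    {c : G} (hc : c ∈ H) (h : ∀ u ∈ T, ⁅c, u⁆ ∈ ppCore p H) : c ∈ Wc p H := by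
  rw [mem_Wc_iff hc]
  refine centralizer_pCore_quot_le H (mem_centralizer_iff.2 fun y hy => ?_)
  obtain ⟨t, ht, rfl⟩ := pCore_le_map_of_isSylowIn hT hy
  have := (mem_ppCore_iff (ppCore_le H (h t ht))).1 (h t ht)
  symm
  rw [← commutatorElement_eq_one_iff_mul_comm, ← map_commutatorElement]
  exact this

/-- abelian normal subgroups of a Sylow `p`-subgroup of a solvable group lie in `O_{p',p}` (`p ≥ 5`) -/
theorem le_Wc_of_comm (hp5 : 5 ≤ p) {H T A : Subgroup G} [Group.IsSolvable H]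
    (hT : IsSylowIn p T H) (hA : A ≤ T) (hc : IsMulCommutative A)
    (hn : T ≤ normalizer (A : Set G)) : A ≤ Wc p H := by
  intro a ha
  have haH := hT.le (hA ha)
  rw [mem_Wc_iff haH]
  refine ZJ.le_pCore_of_stab (A := (A.subgroupOf H).map (QuotientGroup.mk' (pPrimeCore p H)))
    (stab_of_isSolvable (by omega) (by omega)) (centralizer_pCore_quot_le H)
    ((IsPGroup_subgroupOf (hT.isPGroup.to_le hA) H).map _) inferInstance ?_
    (mem_map_of_mem _ ha)
  refine (pCore_le_map_of_isSylowIn hT).trans ((map_mono ?_).trans (le_normalizer_map _))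
  exact fun x hx => le_normalizer_comap H.subtype (hn hx)

section abelian

variable (hab : ∀ P : Subgroup G, IsPGroup p P → IsMulCommutative P)
include hab

theorem le_Wc_of_ab {H T : Subgroup G} [Group.IsSolvable H] (hT : IsSylowIn p T H) :
    T ≤ Wc p H := fun c hc =>
  mem_Wc_of_commutator_mem hT (hT.le hc) fun u hu => by
    have := hab T hT.isPGroup
    rw [commutatorElement_eq_one_iff_mul_comm.2 (setLike_mul_comm hc hu)]
    exact one_mem _

theorem PElt.mem_Wc {H : Subgroup G} [Group.IsSolvable H] {a : G} (ha : PElt p a) (haH : a ∈ H) :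
    a ∈ Wc p H := by
  obtain ⟨T, hT, hle⟩ := exists_isSylowIn_ge ha.isPGroup (zpowers_le.2 haH)
  exact le_Wc_of_ab hab hT (hle (mem_zpowers a))

theorem commutator_mem_ppCore {H : Subgroup G} {a b : G} (ha : a ∈ Wc p H) (hb : b ∈ Wc p H) :
    ⁅a, b⁆ ∈ ppCore p H := by
  obtain ⟨T, hT⟩ := exists_isSylowIn (p := p) H
  obtain ⟨o, ho, t, ht, rfl⟩ := exists_mul_of_mem_Wc hT ha
  obtain ⟨o', ho', t', ht', rfl⟩ := exists_mul_of_mem_Wc hT hb
  have := hab T hT.isPGroup
  have hc : t * t' = t' * t := setLike_mul_comm ht ht'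
  have e : ⁅o * t, o' * t'⁆ = o * (t * o' * t⁻¹) * (t' * o⁻¹ * t'⁻¹) * o'⁻¹ := by
    calc ⁅o * t, o' * t'⁆ = o * (t * o' * t⁻¹) * (t * t') * t⁻¹ * o⁻¹ * t'⁻¹ * o'⁻¹ := by
          simp only [commutatorElement_def]; group
      _ = _ := by rw [hc]; group
  rw [e]
  have hn := le_normalizer_ppCore (p := p) H
  exact mul_mem (mul_mem (mul_mem ho (conj_mem_of_le_normalizer hn (hT.le ht) ho'))
    (conj_mem_of_le_normalizer hn (hT.le ht') (inv_mem ho))) (inv_mem ho')

/-- a `p'`-element whose commutators with a Sylow subgroup are `p'`-elements lies in `O_{p'}` -/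
theorem mem_ppCore_of_coprime_commutator {H T : Subgroup G} [Group.IsSolvable H]
    (hT : IsSylowIn p T H) {c : G} (hc : c ∈ H) (hc' : (orderOf c).Coprime p)
    (h : ∀ u ∈ T, (orderOf ⁅c, u⁆).Coprime p) : c ∈ ppCore p H := by
  refine mem_ppCore_of_mem_Wc (mem_Wc_of_commutator_mem hT hc fun u hu => ?_) hc'
  refine mem_ppCore_of_mem_Wc ?_ (h u hu)
  have hu' := le_Wc_of_ab hab hT hu
  exact mul_mem (conj_mem_of_le_normalizer (le_normalizer_Wc H) hc hu') (inv_mem hu')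

/-- balance -/
theorem mem_ppCore_of_mem_theta {H : Subgroup G} [Group.IsSolvable H] {w c : G} (hw : PElt p w)
    (hwH : w ∈ H) (hcH : c ∈ H) (hc : c ∈ ppCore p (centralizer {w})) : c ∈ ppCore p H := by
  obtain ⟨T, hT, hle⟩ := exists_isSylowIn_ge hw.isPGroup (zpowers_le.2 hwH)
  refine mem_ppCore_of_coprime_commutator hab hT hcH (coprime_of_mem (coprime_card_ppCore _) hc)
    fun u hu => coprime_of_mem (coprime_card_ppCore (centralizer {w})) ?_
  have := hab T hT.isPGroup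
  have hu' : u ∈ centralizer {w} :=
    mem_centralizer_singleton_iff.2 (setLike_mul_comm hu (hle (mem_zpowers w)))
  rw [commutatorElement_def, mul_assoc, mul_assoc, ← mul_assoc u]
  exact mul_mem hc (conj_mem_of_le_normalizer (le_normalizer_ppCore _) hu' (inv_mem hc))

end abelian

end CL.TwoGen
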