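import Cfsg.Agent.Base
import Cfsg.Agent.NGr.TwoGenW
import Cfsg.Agent.Char.Burnside

/-!
# Finite groups in which every two elements generate a solvable subgroup are solvable
-/

set_option autoImplicit false

namespace CL.TwoGen

open Subgroup Cfsg CL.Transfer CL.PComp
open scoped commutatorElement Pointwise

variable {G : Type*} [Group G] {p : ℕ}

/-- congruence of `p`-elements: the quotient is a `p'`-element -/
def Cg (p : ℕ) (a b : G) : Prop := (orderOf (b * a⁻¹)).Coprime p

theorem left_mem_closure_pair (a b : G) : a ∈ closure ({a, b} : Set G) :=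
  subset_closure (by simp)

theorem right_mem_closure_pair (a b : G) : b ∈ closure ({a, b} : Set G) :=
  subset_closure (by simp)

theorem closure_pair_le {a b : G} {H : Subgroup G} (ha : a ∈ H) (hb : b ∈ H) :
    closure ({a, b} : Set G) ≤ H := by
  rw [closure_le]
  rintro x (rfl | rfl) <;> assumption

/-- the standing hypotheses once the Sylow `p`-subgroups are known to be abelian -/
structure Hyp (p : ℕ) (G : Type*) [Group G] : Prop where
  odd : p ≠ 2
  two : ∀ a b : G, Group.IsSolvable (closure ({a, b} : Set G))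
  ab : ∀ P : Subgroup G, IsPGroup p P → IsMulCommutative P
  cent : ∀ w : G, w ≠ 1 → Group.IsSolvable (centralizer ({w} : Set G))
  sub : ∀ X : Subgroup G, (Nat.card X).Coprime p → Group.IsSolvable X

variable [Finite G] [hp : Fact p.Prime]

namespace Hyp

variable (h : Hyp p G)
include h

theorem mem_ppCore_of_cg {H : Subgroup G} [Group.IsSolvable H] {a b : G} (ha : PElt p a)
    (hb : PElt p b) (haH : a ∈ H) (hbH : b ∈ H) (hab : Cg p a b) : b * a⁻¹ ∈ ppCore p H :=
  mem_ppCore_of_mem_Wc (mul_mem (hb.mem_Wc h.ab hbH) (inv_mem (ha.mem_Wc h.ab haH))) hab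

/-- four elements in a solvable subgroup -/
theorem exists_solvable {w a c u : G} (hw : PElt p w) (ha : PElt p a) (hwa : Cg p w a)
    (hc : (orderOf c).Coprime p) (hwc : Commute w c) (hwu : Commute w u) :
    ∃ H : Subgroup G, Group.IsSolvable H ∧ w ∈ H ∧ a ∈ H ∧ c ∈ H ∧ u ∈ H := by
  have := h.two w a
  obtain ⟨k, hk, rfl⟩ := exists_conj_of_mul_inv_mem (coprime_card_ppCore _) hw ha
    (le_normalizer_ppCore _ (left_mem_closure_pair w a))
    (h.mem_ppCore_of_cg hw ha (left_mem_closure_pair w a) (right_mem_closure_pair w a) hwa)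
  obtain ⟨h1, h2⟩ := mem_zpowers_mul hw hc hwc
  have h3 := zpowers_le.2 (left_mem_closure_pair (w * c) (k * u))
  have h4 := right_mem_closure_pair (w * c) (k * u)
  have h5 : k * w * k⁻¹ ∈ closure ({w * c, k * u} : Set G) := by
    have := mul_mem (mul_mem h4 (h3 h1)) (inv_mem h4)
    rwa [show k * u * w * (k * u)⁻¹ = k * w * k⁻¹ by
      rw [mul_assoc k u, ← hwu.eq]; group] at this
  exact ⟨_, h.two (w * c) (k * u), h3 h1, h5, h3 h2,
    (Subgroup.mul_mem_cancel_left _ (closure_pair_le (h3 h1) h5 (ppCore_le _ hk))).1 h4⟩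

/-- `C_X(w) ≤ O_{p'}(C(w))` for a `p'`-group `X = [X, w]` -/
theorem inf_centralizer_le_theta {w : G} (hw : PElt p w) (hw1 : w ≠ 1) {X : Subgroup G}
    (hX : (Nat.card X).Coprime p) (hn : zpowers w ≤ normalizer (X : Set G))
    (hXX : ⁅X, zpowers w⁆ = X) :
    X ⊓ centralizer (zpowers w : Set G) ≤ ppCore p (centralizer {w}) := by
  have hC : ∀ c, c ∈ centralizer (zpowers w : Set G) → c ∈ centralizer ({w} : Set G) :=
    fun c hc => mem_centralizer_singleton_iff.2 (mem_centralizer_zpowers.1 hc).symm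
  have := h.cent w hw1
  obtain ⟨k, hk⟩ := IsPGroup.iff_card.1 hw.isPGroup
  refine le_trans (LHyp.centralizer_le (Y := X ⊓ centralizer (zpowers w : Set G) ⊓
    ppCore p (centralizer {w})) ⟨?_, h.sub X hX, hn, ?_, hXX, inf_le_left, ?_, ?_⟩) inf_le_right
  · rw [← Nat.card_zpowers, hk]
    exact (hp.out.odd_of_ne_two h.odd).pow
  · rw [hk]; exact (Nat.Coprime.pow_right k hX).symm
  · exact le_normalizer_inf le_normalizer fun c hc => le_normalizer_ppCore _ (hC c hc.2)
  · intro x hx c hc d hd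
    refine ⟨hd.1, ?_⟩
    obtain ⟨T, hT⟩ := exists_isSylowIn (p := p) (centralizer ({w} : Set G))
    refine mem_ppCore_of_coprime_commutator h.ab hT (hC d hd.1.2) (coprime_of_mem hX hd.1.1)
      fun u hu => ?_
    obtain ⟨H, hH, h1, h2, h3, h4⟩ := h.exists_solvable hw (hw.conj x) (c := c) (u := u)
      (coprime_of_mem hX (le_normalizer_iff_commutator_le_left.1 hn
        (commutator_mem_commutator hx (mem_zpowers w))))
      (coprime_of_mem hX hc.1) (mem_centralizer_zpowers.1 hc.2)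
      (mem_centralizer_singleton_iff.1 (hT.le hu)).symm
    have h5 : d ∈ Wc p H :=
      gen_le (hw.mem_Wc h.ab h1) ((hw.conj x).mem_Wc h.ab h2) (le_normalizer_Wc H h3) hd.2
    exact coprime_of_mem (coprime_card_ppCore H)
      (commutator_mem_ppCore h.ab h5 ((pElt_of_mem hT.isPGroup hu).mem_Wc h.ab h4))

theorem cg_conj_of_theta {w c u : G} (hw : PElt p w) (hc : c ∈ ppCore p (centralizer {w}))
    (hu : PElt p u) : Cg p u (w * c * u * (w * c)⁻¹) := by
  have := h.two (w * c) u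
  obtain ⟨h1, h2⟩ := mem_zpowers_mul hw (coprime_of_mem (coprime_card_ppCore _) hc)
    (mem_centralizer_singleton_iff.1 (ppCore_le _ hc)).symm
  have h3 := zpowers_le.2 (left_mem_closure_pair (w * c) u)
  have h4 := mem_ppCore_of_mem_theta h.ab hw (h3 h1) (h3 h2) hc
  exact coprime_of_mem (coprime_card_ppCore _) (commutator_mem_ppCore h.ab
    (mul_mem (hw.mem_Wc h.ab (h3 h1)) (ppCore_le_Wc _ h4))
    (hu.mem_Wc h.ab (right_mem_closure_pair (w * c) u)))

theorem commutator_le_theta {O T : Subgroup G} (hO : (Nat.card O).Coprime p) (hT : IsPGroup p T)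
    (hn : T ≤ normalizer (O : Set G)) {v : G} (hv : v ∈ T) (hv1 : v ≠ 1) :
    ⁅O ⊓ centralizer {v}, T⁆ ≤ ppCore p (centralizer {v}) := by
  have := h.cent v hv1
  have := h.ab T hT
  refine commutator_le.2 fun c hc t ht => mem_ppCore_of_mem_Wc ?_ (coprime_of_mem hO
    (le_normalizer_iff_commutator_le_left.1 hn (commutator_mem_commutator hc.1 ht)))
  have h1 : t ∈ Wc p (centralizer {v}) := (pElt_of_mem hT ht).mem_Wc h.ab
    (mem_centralizer_singleton_iff.2 (setLike_mul_comm ht hv))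
  exact mul_mem (conj_mem_of_le_normalizer (le_normalizer_Wc _) hc.2 h1) (inv_mem h1)

theorem commutator_inf_centralizer_le_theta {O T : Subgroup G} (hO : (Nat.card O).Coprime p)
    (hT : IsPGroup p T) (hn : T ≤ normalizer (O : Set G)) {v : G} (hv : v ∈ T) (hv1 : v ≠ 1) :
    ⁅O, T⁆ ⊓ centralizer (T : Set G) ≤ ppCore p (centralizer {v}) := by
  have := h.cent v hv1
  have hTc := h.ab T hT
  have hcop : (Nat.card T).Coprime (Nat.card O) := coprime_card_of_isPGroup hT hO
  have hsolv : Group.IsSolvable T ∨ Group.IsSolvable O := Or.inr (h.sub O hO)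
  have key := sSup_subgroup_induction {N | ∃ t ∈ T, N = ⁅O, zpowers t⁆}
    (fun N => N ≤ O ∧ T ≤ normalizer (N : Set G) ∧ O ≤ normalizer (N : Set G) ∧
      N ⊓ centralizer (T : Set G) ≤ ppCore p (centralizer {v}))
    ⟨bot_le, by rw [normalizer_eq_top]; exact le_top, by rw [normalizer_eq_top]; exact le_top,
      inf_le_left.trans bot_le⟩ ?_ ?_
  · refine le_trans (inf_le_inf_right _ (commutator_le.2 fun a ha t ht => ?_)) key.2.2.2
    exact (le_sSup (s := {N | ∃ t ∈ T, N = ⁅O, zpowers t⁆}) ⟨t, ht, rfl⟩ :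
      ⁅O, zpowers t⁆ ≤ _) (commutator_mem_commutator ha (mem_zpowers t))
  · rintro A B ⟨hA1, hA2, hA3, hA4⟩ ⟨hB1, hB2, hB3, hB4⟩
    refine ⟨sup_le hA1 hB1, le_normalizer_sup hA2 hB2, le_normalizer_sup hA3 hB3, fun d hd => ?_⟩
    obtain ⟨a, ha, b, hb, rfl⟩ := (mem_sup_iff_of_le_normalizer (hA1.trans hB3)).1 hd.1
    obtain ⟨a', ha', b', hb', he⟩ := coprime_centralizer_mul hcop hsolv hA1 hA2 hB2 ha hb hd.2
    rw [he]
    exact mul_mem (hA4 ha') (hB4 hb')
  · rintro _ ⟨t, ht, rfl⟩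
    have hnt : zpowers t ≤ normalizer (O : Set G) := (zpowers_le.2 ht).trans hn
    have hle : ⁅O, zpowers t⁆ ≤ O := le_normalizer_iff_commutator_le_left.1 hnt
    refine ⟨hle, le_normalizer_commutator hn (((le_centralizer T).trans
      (centralizer_le (zpowers_le.2 ht))).trans (centralizer_le_normalizer _)),
      normalizer_commutator_ge_left _ _, ?_⟩
    by_cases ht1 : t = 1
    · rw [ht1, zpowers_one_eq_bot, commutator_bot_right]
      exact inf_le_left.trans bot_le
    intro d hd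
    have htp := pElt_of_mem hT ht
    have h1 := h.inf_centralizer_le_theta htp ht1 (PComp.coprime_card_of_le hle hO)
      (normalizer_commutator_ge_right _ _)
      (coprime_commutator_commutator hnt (coprime_card_of_le (zpowers_le.2 ht) le_rfl hcop)
        (Or.inr (h.sub O hO))) ⟨hd.1, centralizer_le (zpowers_le.2 ht) hd.2⟩
    exact mem_ppCore_of_mem_theta h.ab htp
      (mem_centralizer_singleton_iff.2 (setLike_mul_comm ht hv))
      (mem_centralizer_singleton_iff.2 (mem_centralizer_iff.1 hd.2 v hv).symm) h1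

theorem ppCore_inf_le_theta {w c y v : G} (hw : PElt p w) (hw1 : w ≠ 1)
    (hc : c ∈ ppCore p (centralizer {w})) (hy : PElt p y) (hv : PElt p v) (hv1 : v ≠ 1)
    (hvH : v ∈ closure ({w * c, y} : Set G)) :
    ppCore p (closure ({w * c, y} : Set G)) ⊓ centralizer {v} ≤ ppCore p (centralizer {v}) := by
  have := h.two (w * c) y
  have := h.cent v hv1
  set H := closure ({w * c, y} : Set G) with hH
  set O := ppCore p H with hO
  have hOc : (Nat.card O).Coprime p := coprime_card_ppCore H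
  obtain ⟨h1, h2⟩ := mem_zpowers_mul hw (coprime_of_mem (coprime_card_ppCore _) hc)
    (mem_centralizer_singleton_iff.1 (ppCore_le _ hc)).symm
  have h3 := zpowers_le.2 (left_mem_closure_pair (w * c) y)
  have hwH := h3 h1
  have hcO : c ∈ O := mem_ppCore_of_mem_theta h.ab hw hwH (h3 h2) hc
  obtain ⟨T, hT, hvT⟩ := exists_isSylowIn_ge hv.isPGroup (zpowers_le.2 hvH)
  have hvT := hvT (mem_zpowers v)
  have hTc := h.ab T hT.isPGroup
  have hn : T ≤ normalizer (O : Set G) := hT.le.trans (le_normalizer_ppCore H)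
  have hcop : (Nat.card T).Coprime (Nat.card O) := coprime_card_of_isPGroup hT.isPGroup hOc
  have hsolv : Group.IsSolvable T ∨ Group.IsSolvable O := Or.inr (h.sub O hOc)
  -- decomposition of elements of `O` centralizing an element of `T`
  have dec : ∀ t ∈ T, t ≠ 1 → ∀ d ∈ O ⊓ centralizer {t}, ∃ k ∈ ⁅O, T⁆,
      k ∈ ppCore p (centralizer {t}) ∧ ∃ d₀ ∈ O ⊓ centralizer (T : Set G), d = k * d₀ := by
    intro t ht ht1 d hd
    have hn' : T ≤ normalizer ((O ⊓ centralizer {t} : Subgroup G) : Set G) :=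
      le_normalizer_inf hn (le_trans (fun s hs =>
        mem_centralizer_singleton_iff.2 (setLike_mul_comm hs ht)) le_normalizer)
    obtain ⟨k, hk, d₀, hd₀, he⟩ := coprime_exists_commutator_mul_centralizer hn'
      (coprime_card_of_le le_rfl inf_le_left hcop) (solvable_or_of_le inf_le_left hsolv) hd
    exact ⟨k, commutator_mono inf_le_left le_rfl hk,
      h.commutator_le_theta hOc hT.isPGroup hn ht ht1 hk, d₀, ⟨hd₀.1.1, hd₀.2⟩, he⟩
  obtain ⟨o, ho, t, ht, rfl⟩ := exists_conj_of_mem_Wc hT (hw.mem_Wc h.ab hwH) hw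
  have ht1 : t ≠ 1 := by rintro rfl; exact hw1 (by group)
  have hc1 : o⁻¹ * c * o ∈ ppCore p (centralizer {t}) := by
    have e : centralizer ({o * t * o⁻¹} : Set G) = MulAut.conj o • centralizer {t} := by
      ext z
      rw [Cj.mem_conj_iff, mem_centralizer_singleton_iff, mem_centralizer_singleton_iff]
      constructor
      · intro H
        calc o⁻¹ * z * o * t = o⁻¹ * (z * (o * t * o⁻¹)) * o := by group
          _ = _ := by rw [H]; group
      · intro H
        calc z * (o * t * o⁻¹) = o * (o⁻¹ * z * o * t) * o⁻¹ := by group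
          _ = _ := by rw [H]; group
    rwa [e, ← conj_smul_ppCore, Cj.mem_conj_iff] at hc
  obtain ⟨k₀, hk₀, hk₀', c₀, hc₀, he⟩ := dec t ht ht1 _
    ⟨Subgroup.mul_mem _ (Subgroup.mul_mem _ (Subgroup.inv_mem _ ho) hcO) ho, ppCore_le _ hc1⟩
  have hc₀v : c₀ ∈ ppCore p (centralizer {v}) := by
    refine mem_ppCore_of_mem_theta h.ab (pElt_of_mem hT.isPGroup ht)
      (mem_centralizer_singleton_iff.2 (setLike_mul_comm ht hvT))
      (mem_centralizer_singleton_iff.2 (mem_centralizer_iff.1 hc₀.2 v hvT).symm) ?_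
    rw [he] at hc1
    exact (Subgroup.mul_mem_cancel_left _ hk₀').1 hc1
  set N : Subgroup G := ⁅O, T⁆ ⊔ zpowers c₀ with hN
  have hconj : ∀ o' ∈ O, ∀ t' ∈ T, o' * t' * o'⁻¹ ∈ N ⊔ T := fun o' ho' t' ht' => by
    rw [show o' * t' * o'⁻¹ = ⁅o', t'⁆ * t' by simp only [commutatorElement_def]; group]
    exact mul_mem (mem_sup_left (mem_sup_left (commutator_mem_commutator ho' ht')))
      (mem_sup_right ht')
  have hHle : H ≤ N ⊔ T := by
    have hH' : H ≤ MulAut.conj o • (N ⊔ T) := by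
      refine closure_pair_le (Cj.mem_conj_iff.2 ?_) (Cj.mem_conj_iff.2 ?_)
      · rw [show o⁻¹ * (o * t * o⁻¹ * c) * o = t * (o⁻¹ * c * o) by group, he]
        exact mul_mem (mem_sup_right ht) (mem_sup_left
          (mul_mem (mem_sup_left hk₀) (mem_sup_right (mem_zpowers c₀))))
      · obtain ⟨o', ho', t', ht', rfl⟩ := exists_conj_of_mem_Wc hT
          (hy.mem_Wc h.ab (right_mem_closure_pair _ y)) hy
        rw [show o⁻¹ * (o' * t' * o'⁻¹) * o = (o⁻¹ * o') * t' * (o⁻¹ * o')⁻¹ by group]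
        exact hconj _ (mul_mem (inv_mem ho) ho') _ ht'
    rwa [Cj.le_conj_iff, Cj.conj_eq_of_mem (inv_mem (ppCore_le H ho))] at hH'
  intro d hd
  obtain ⟨k, -, hk, d₀, hd₀, rfl⟩ := dec v hvT hv1 d hd
  refine mul_mem hk ?_
  have hTN : T ≤ normalizer (N : Set G) := le_normalizer_sup (normalizer_commutator_ge_right _ _)
    ((le_centralizer_iff.1 (zpowers_le.2 hc₀.2)).trans (centralizer_le_normalizer _))
  have h4 : d₀ ∈ N := mem_of_mem_sup_of_coprime hT.isPGroup hTN (hHle (ppCore_le H hd₀.1))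
    (coprime_of_mem hOc hd₀.1)
  obtain ⟨b, hb, e, he', rfl⟩ := (mem_sup_iff_of_le_normalizer'
    ((zpowers_le.2 hc₀.1).trans (normalizer_commutator_ge_left O T))).1 h4
  refine mul_mem (h.commutator_inf_centralizer_le_theta hOc hT.isPGroup hn hvT hv1 ⟨hb, ?_⟩)
    (zpowers_le.2 hc₀v he')
  exact (Subgroup.mul_mem_cancel_right _ (zpowers_le.2 hc₀.2 he')).1 hd₀.2

/-- on a line through a point congruent to `x`, at most one point is not congruent to `x` -/
theorem eq_of_not_cg {x a y y₁ y₂ : G} (hx : PElt p x) (hx1 : x ≠ 1) (ha : PElt p a)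
    (hxa : Cg p x a) (hy : PElt p y) (hy₁ : y₁ ∈ zpowers y) (hy₂ : y₂ ∈ zpowers y)
    (h₁ : ¬ Cg p x (y₁ * a * y₁⁻¹)) (h₂ : ¬ Cg p x (y₂ * a * y₂⁻¹)) : y₁ = y₂ := by
  have := h.two x a
  set O := ppCore p (closure ({x, a} : Set G)) with hO
  have hOc : (Nat.card O).Coprime p := coprime_card_ppCore _
  have hxn : zpowers x ≤ normalizer (O : Set G) :=
    zpowers_le.2 (le_normalizer_ppCore _ (left_mem_closure_pair x a))
  have hcop : (Nat.card (zpowers x)).Coprime (Nat.card O) :=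
    coprime_card_of_isPGroup hx.isPGroup hOc
  have hsolv : Group.IsSolvable (zpowers x) ∨ Group.IsSolvable O := Or.inr (h.sub O hOc)
  obtain ⟨k, hk, hak⟩ := exists_conj_of_mul_inv_mem hOc hx ha (hxn (mem_zpowers x))
    (h.mem_ppCore_of_cg hx ha (left_mem_closure_pair x a) (right_mem_closure_pair x a) hxa)
  obtain ⟨n, hn, c', hc', rfl⟩ := coprime_exists_commutator_mul_centralizer hxn hcop hsolv hk
  set X : Subgroup G := ⁅O, zpowers x⁆ with hX
  have hXc : (Nat.card X).Coprime p :=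
    PComp.coprime_card_of_le (le_normalizer_iff_commutator_le_left.1 hxn) hOc
  have hxX : zpowers x ≤ normalizer (X : Set G) := normalizer_commutator_ge_right _ _
  have hXX : ⁅X, zpowers x⁆ = X := coprime_commutator_commutator hxn hcop hsolv
  obtain ⟨w, c, hwz, hcz, hw, hc, he⟩ := exists_p_part_mul_p'_part (p := p) (n * x)
  have hwc : Commute w c := setLike_mul_comm hwz hcz
  have hcX : c ∈ X := mem_of_mem_sup_of_coprime hx.isPGroup hxX
    (zpowers_le.2 (mul_mem (mem_sup_left hn) (mem_sup_right (mem_zpowers x))) hcz) hc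
  obtain ⟨o, ho, hwo⟩ := exists_conj_of_mul_inv_mem hXc hx hw (hxX (mem_zpowers x)) (by
    rw [show w * x⁻¹ = n * (x * c⁻¹ * x⁻¹) by rw [eq_mul_inv_of_mul_eq he.symm]; group]
    exact mul_mem hn (conj_mem_of_le_normalizer hxX (mem_zpowers x) (inv_mem hcX)))
  have hw1 : w ≠ 1 := by
    intro h0
    rw [h0] at hwo
    exact hx1 (by rw [show x = o⁻¹ * (o * x * o⁻¹) * o by group, ← hwo]; group)
  have hcθ : c ∈ ppCore p (centralizer {w}) := by
    refine h.inf_centralizer_le_theta hw hw1 hXc ?_ ?_ ⟨hcX, mem_centralizer_zpowers.2 hwc⟩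
    · rw [hwo, zpowers_le]
      exact mul_mem (mul_mem (le_normalizer ho) (hxX (mem_zpowers x))) (inv_mem (le_normalizer ho))
    · rw [hwo, ← Cj.conj_zpowers]
      conv_lhs => rw [← Cj.conj_eq_of_mem ho]
      rw [← Cj.conj_commutator, hXX, Cj.conj_eq_of_mem ho]
  have := h.two (w * c) y
  set H := closure ({w * c, y} : Set G) with hH
  have hyH : zpowers y ≤ H := zpowers_le.2 (right_mem_closure_pair _ _)
  have hhH : zpowers (w * c) ≤ H := zpowers_le.2 (left_mem_closure_pair _ _)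
  have hhW : w * c ∈ Wc p H := by
    rw [← he] at hhH
    exact mul_mem (PElt.mem_Wc h.ab hw (hhH hwz))
      (ppCore_le_Wc H (mem_ppCore_of_mem_theta h.ab hw (hhH hwz) (hhH hcz) hcθ))
  have key : ∀ y' ∈ zpowers y, ¬ Cg p x (y' * a * y'⁻¹) → y' * (w * c) ∈ ppCore p H := by
    intro y' hy' hne
    have hgW : y' * (w * c) ∈ Wc p H :=
      mul_mem ((pElt_of_mem hy.isPGroup hy').mem_Wc h.ab (hyH hy')) hhW
    obtain ⟨w', c₁, hwz', hcz', hw', hc₁, he'⟩ := exists_p_part_mul_p'_part (p := p) (y' * (w * c))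
    have hc₁O : c₁ ∈ ppCore p H := mem_ppCore_of_mem_Wc (zpowers_le.2 hgW hcz') hc₁
    by_cases hw1' : w' = 1
    · rw [he', hw1', one_mul]; exact hc₁O
    exfalso
    apply hne
    have h1 := h.ppCore_inf_le_theta hw hw1 hcθ hy hw' hw1' (Wc_le H (zpowers_le.2 hgW hwz'))
      ⟨hc₁O, mem_centralizer_singleton_iff.2 (setLike_mul_comm hcz' hwz')⟩
    have h2 := h.cg_conj_of_theta hw' h1 hx
    rw [← he', ← he] at h2
    have hcx := mem_centralizer_zpowers.1 hc'.2
    rwa [show y' * (n * x) * x * (y' * (n * x))⁻¹ = y' * a * y'⁻¹ by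
      rw [hak, mul_assoc n c', ← hcx]; group] at h2
  have h3 : y₁ * y₂⁻¹ ∈ ppCore p H := by
    have := mul_mem (key y₁ hy₁ h₁) (inv_mem (key y₂ hy₂ h₂))
    rwa [show y₁ * (w * c) * (y₂ * (w * c))⁻¹ = y₁ * y₂⁻¹ by group] at this
  exact mul_inv_eq_one.1 ((pElt_of_mem hy.isPGroup (mul_mem hy₁ (inv_mem hy₂))).eq_one_of_mem
    (coprime_card_ppCore H) h3)

theorem cg_conj {x a y : G} (hx : PElt p x) (hx1 : x ≠ 1) (ha : PElt p a) (hxa : Cg p x a)
    (hy : orderOf y = p) : Cg p x (y * a * y⁻¹) := by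
  by_contra hne
  have hyp : PElt p y := ⟨1, by rw [pow_one, ← hy, pow_orderOf_eq_one]⟩
  have hy1 : y ≠ 1 := by rintro rfl; exact hp.out.one_lt.ne (by rw [← hy, orderOf_one])
  have hy2 : y⁻¹ ≠ y := by
    intro H
    have : y ^ 2 = 1 := by rw [pow_two]; nth_rewrite 1 [← H]; exact inv_mul_cancel y
    exact h.odd ((Nat.prime_dvd_prime_iff_eq hp.out Nat.prime_two).1
      (hy ▸ orderOf_dvd_of_pow_eq_one this))
  set b := y * a * y⁻¹ with hb
  have hbp : PElt p b := ha.conj y
  have := h.two x b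
  obtain ⟨T, hT, hxT⟩ := exists_isSylowIn_ge hx.isPGroup
    (zpowers_le.2 (left_mem_closure_pair x b))
  have hxT := hxT (mem_zpowers x)
  obtain ⟨o, ho, t, ht, hbt⟩ := exists_mul_of_mem_Wc hT
    (hbp.mem_Wc h.ab (right_mem_closure_pair x b))
  have htp := pElt_of_mem hT.isPGroup ht
  have htb : Cg p t b := coprime_of_mem (coprime_card_ppCore _) (by
    rw [hbt, mul_inv_cancel_right]; exact ho)
  have ht1 : t ≠ 1 := by
    rintro rfl
    have h1 : b = 1 := hbp.eq_one (by simpa [Cg] using htb)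
    have h2 : a = 1 := by rw [show a = y⁻¹ * b * y by rw [hb]; group, h1]; group
    exact hx1 (hx.eq_one (by simpa [Cg, h2] using hxa))
  obtain ⟨e, hep, hxe, hte⟩ : ∃ e, PElt p e ∧ Cg p x e ∧ Cg p t e := by
    by_cases h1 : Cg p t (y⁻¹ * b * y⁻¹⁻¹)
    · exact ⟨a, ha, hxa, by rwa [show y⁻¹ * b * y⁻¹⁻¹ = a by rw [hb]; group] at h1⟩
    refine ⟨y * b * y⁻¹, hbp.conj y, ?_, ?_⟩
    · by_contra h2
      refine hy1 (mul_left_cancel (a := y) ?_)
      rw [mul_one]
      exact h.eq_of_not_cg hx hx1 ha hxa hyp (mul_mem (mem_zpowers y) (mem_zpowers y))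
        (mem_zpowers y) (by rwa [show y * y * a * (y * y)⁻¹ = y * b * y⁻¹ by rw [hb]; group]) hne
    · by_contra h2
      exact hy2 (h.eq_of_not_cg htp ht1 hbp htb hyp (inv_mem (mem_zpowers y)) (mem_zpowers y) h1 h2)
  have := h.ab T hT.isPGroup
  obtain ⟨H, hH, h1, h2, -, h4⟩ := h.exists_solvable hx hep hxe (c := 1) (u := t) (by simp)
    (Commute.one_right x) (setLike_mul_comm hxT ht)
  have h5 : t * x⁻¹ ∈ ppCore p H := by
    have := mul_mem (inv_mem (h.mem_ppCore_of_cg htp hep h4 h2 hte))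
      (h.mem_ppCore_of_cg hx hep h1 h2 hxe)
    rwa [show (e * t⁻¹)⁻¹ * (e * x⁻¹) = t * x⁻¹ by group] at this
  have h6 := (pElt_of_mem hT.isPGroup (mul_mem ht (inv_mem hxT))).eq_one_of_mem
    (coprime_card_ppCore H) h5
  exact hne (mul_inv_eq_one.1 h6 ▸ htb)

theorem normalizer_le_centralizer (hgen : closure {y : G | orderOf y = p} = ⊤) (P : Sylow p G) :
    normalizer ((P : Subgroup G) : Set G) ≤ centralizer ((P : Subgroup G) : Set G) := by
  intro n hn
  rw [mem_centralizer_iff]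
  intro x hx
  by_cases hx1 : x = 1
  · rw [hx1, one_mul, mul_one]
  have hxp := pElt_of_mem P.isPGroup' hx
  have key : ∀ g ∈ closure {y : G | orderOf y = p}, Cg p x (g * x * g⁻¹) := by
    intro g hg
    induction hg using closure_induction_left with
    | one => simp [Cg]
    | mul_left y hy g _ ih =>
      have := h.cg_conj hxp hx1 (hxp.conj g) ih hy
      rwa [show y * (g * x * g⁻¹) * y⁻¹ = y * g * x * (y * g)⁻¹ by group] at this
    | inv_mul_cancel y hy g _ ih =>
      have := h.cg_conj hxp hx1 (hxp.conj g) ih ((orderOf_inv y).trans hy)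
      rwa [show y⁻¹ * (g * x * g⁻¹) * y⁻¹⁻¹ = y⁻¹ * g * x * (y⁻¹ * g)⁻¹ by group] at this
  have h1 := (pElt_of_mem P.isPGroup' (mul_mem ((mem_normalizer_iff.1 hn x).1 hx)
    (inv_mem hx))).eq_one (key n (hgen ▸ mem_top n))
  rw [mul_inv_eq_one, mul_inv_eq_iff_eq_mul] at h1
  exact h1.symm

end Hyp

end CL.TwoGen
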