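import Cfsg.Agent.Base
import Cfsg.Agent.NGr.TwoGenMain

/-!
# Two-generator solvability criterion: reduction to abelian Sylow subgroups and conclusion
-/

set_option autoImplicit false

namespace CL.TwoGen

open Subgroup Cfsg CL.Transfer CL.PComp
open scoped commutatorElement Pointwise MatrixGroups

variable {G : Type*} [Group G] {p : ℕ}

theorem mul_pow_mul_inv_mem {N : Subgroup G} {x g : G} (hx : x ∈ N)
    (hg : g ∈ normalizer (N : Set G)) (m : ℕ) : (x * g) ^ m * (g ^ m)⁻¹ ∈ N := by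
  induction m with
  | zero => simp
  | succ m ih =>
    rw [show (x * g) ^ (m + 1) * (g ^ (m + 1))⁻¹ =
      (x * g) ^ m * (g ^ m)⁻¹ * (g ^ m * x * (g ^ m)⁻¹) by rw [pow_succ, pow_succ]; group]
    exact mul_mem ih ((mem_normalizer_iff.1 (pow_mem hg m) x).1 hx)

/-- the conjugates of the elements of `A` -/
def conjSet (A : Subgroup G) : Set G := {x | ∃ g : G, g * x * g⁻¹ ∈ A}

theorem conj_mem_conjSet {A : Subgroup G} {x : G} (hx : x ∈ conjSet A) (g : G) :
    g * x * g⁻¹ ∈ conjSet A := by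
  obtain ⟨k, hk⟩ := hx
  exact ⟨k * g⁻¹, by rwa [show k * g⁻¹ * (g * x * g⁻¹) * (k * g⁻¹)⁻¹ = k * x * k⁻¹ by group]⟩

theorem mem_conjSet_of_conj {A : Subgroup G} {x g : G} (hx : g * x * g⁻¹ ∈ conjSet A) :
    x ∈ conjSet A := by
  have := conj_mem_conjSet hx g⁻¹
  rwa [show g⁻¹ * (g * x * g⁻¹) * g⁻¹⁻¹ = x by group] at this

theorem inv_mem_conjSet {A : Subgroup G} {x : G} (hx : x ∈ conjSet A) : x⁻¹ ∈ conjSet A := by
  obtain ⟨k, hk⟩ := hx
  exact ⟨k, by rw [show k * x⁻¹ * k⁻¹ = (k * x * k⁻¹)⁻¹ by group]; exact inv_mem hk⟩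

variable [Finite G] [hp : Fact p.Prime]

theorem exists_pow_pElt (y : G) : ∃ m : ℕ, m.Coprime p ∧ PElt p (y ^ m) := by
  obtain ⟨k, m, hm, he⟩ := Nat.exists_eq_pow_mul_and_not_dvd (orderOf_pos y).ne' p hp.out.ne_one
  exact ⟨m, ((Nat.Prime.coprime_iff_not_dvd hp.out).2 hm).symm, k, by
    rw [← pow_mul, mul_comm, ← he, pow_orderOf_eq_one]⟩

section closed

variable (P : Sylow p G) {A : Subgroup G} (hAP : A ≤ P) (hc : IsMulCommutative A)
  (hs : ∀ x ∈ conjSet A, x ∈ (P : Subgroup G) → x ∈ A)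
include hAP hc hs

omit hc hs in
theorem pElt_of_mem_conjSet {x : G} (hx : x ∈ conjSet A) : PElt p x := by
  obtain ⟨g, hg⟩ := hx
  have := (pElt_of_mem P.isPGroup' (hAP hg)).conj g⁻¹
  rwa [show g⁻¹ * (g * x * g⁻¹) * g⁻¹⁻¹ = x by group] at this

omit hAP in
theorem exists_inter {T : Subgroup G} (hT : IsPGroup p T) :
    ∃ A₀ : Subgroup G, IsMulCommutative A₀ ∧ ∀ x, x ∈ A₀ ↔ x ∈ T ∧ x ∈ conjSet A := by
  obtain ⟨g, hg⟩ := exists_conj_le_sylow P hT
  refine ⟨T ⊓ A.comap (MulAut.conj g).toMonoidHom, ⟨⟨fun a b => Subtype.ext ?_⟩⟩, fun x => ?_⟩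
  · refine (MulAut.conj g).injective ?_
    rw [coe_mul, coe_mul, map_mul, map_mul]
    exact setLike_mul_comm (s := A) a.2.2 b.2.2
  · exact ⟨fun h => ⟨h.1, g, h.2⟩, fun h =>
      ⟨h.1, hs _ (conj_mem_conjSet h.2 g) (conj_smul_le_iff.1 hg x h.1)⟩⟩

theorem exists_normal_of_solvable (hp5 : 5 ≤ p) (H : Subgroup G) [Group.IsSolvable H] :
    ∃ N : Subgroup G, H ≤ normalizer (N : Set G) ∧ (∀ x ∈ H, x ∈ conjSet A → x ∈ N) ∧
      ∀ x ∈ N, PElt p x → x ∈ conjSet A := by
  obtain ⟨T, hT⟩ := exists_isSylowIn (p := p) H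
  obtain ⟨A₀, hc₀, hA₀⟩ := exists_inter P hc hs hT.isPGroup
  have hA₀T : A₀ ≤ T := fun x hx => ((hA₀ x).1 hx).1
  have hW : A₀ ≤ Wc p H := le_Wc_of_comm hp5 hT hA₀T hc₀ (fun t ht =>
    mem_normalizer_of_conj_smul_le (conj_smul_le_iff.2 fun x hx => (hA₀ _).2
      ⟨mul_mem (mul_mem ht (hA₀T hx)) (inv_mem ht), conj_mem_conjSet ((hA₀ x).1 hx).2 t⟩))
  have hn : A₀ ≤ normalizer (ppCore p H : Set G) :=
    (hA₀T.trans hT.le).trans (le_normalizer_ppCore H)
  have key : ∀ x ∈ H, x ∈ conjSet A → x ∈ ppCore p H ⊔ A₀ := by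
    intro x hxH hx
    have hxp := pElt_of_mem_conjSet P hAP hx
    obtain ⟨k, hk, hk'⟩ := hT.exists_conj_le hxp.isPGroup (zpowers_le.2 hxH)
    have h1 : k * x * k⁻¹ ∈ Wc p H := hW ((hA₀ _).2
      ⟨conj_smul_le_iff.1 hk' x (mem_zpowers x), conj_mem_conjSet hx k⟩)
    obtain ⟨o, ho, t, ht, rfl⟩ := exists_conj_of_mem_Wc hT
      ((mem_normalizer_iff.1 (le_normalizer_Wc H hk) x).2 h1) hxp
    exact mul_mem (mul_mem (mem_sup_left ho) (mem_sup_right ((hA₀ t).2
      ⟨ht, mem_conjSet_of_conj hx⟩))) (inv_mem (mem_sup_left ho))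
  refine ⟨ppCore p H ⊔ A₀, fun k hk => mem_normalizer_of_conj_smul_le ?_, key, fun x hx hxp => ?_⟩
  · rw [conj_smul_sup]
    refine sup_le (le_sup_of_le_left
      (conj_smul_eq_iff_mem_normalizer.2 (le_normalizer_ppCore H hk)).le) ?_
    exact conj_smul_le_iff.2 fun x hx => key _
      (mul_mem (mul_mem hk (hT.le (hA₀T hx))) (inv_mem hk)) (conj_mem_conjSet ((hA₀ x).1 hx).2 k)
  · obtain ⟨k, -, hk⟩ := (isSylowIn_sup (coprime_card_ppCore H) (hT.isPGroup.to_le hA₀T)
      hn).exists_conj_le hxp.isPGroup (zpowers_le.2 hx)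
    exact mem_conjSet_of_conj ((hA₀ _).1 (conj_smul_le_iff.1 hk x (mem_zpowers x))).2

theorem sylow_le_of_closure (hp5 : 5 ≤ p)
    (two : ∀ a b : G, Group.IsSolvable (closure ({a, b} : Set G)))
    (hgen : closure (conjSet A) = ⊤) : (P : Subgroup G) ≤ A := by
  have step : ∀ x ∈ conjSet A, ∀ g : G, (∃ m : ℕ, m.Coprime p ∧ g ^ m ∈ conjSet A) →
      ∃ m : ℕ, m.Coprime p ∧ (x * g) ^ m ∈ conjSet A := by
    rintro x hx g ⟨m, hm, hg⟩
    have := two x g
    obtain ⟨N, hN, h1, h2⟩ := exists_normal_of_solvable P hAP hc hs hp5 (closure ({x, g} : Set G))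
    have h3 : (x * g) ^ m ∈ N := (Subgroup.mul_mem_cancel_right _ (inv_mem
      (h1 _ (pow_mem (right_mem_closure_pair x g) m) hg))).1
      (mul_pow_mul_inv_mem (h1 x (left_mem_closure_pair x g) hx)
        (hN (right_mem_closure_pair x g)) m)
    obtain ⟨m', hm', h4⟩ := exists_pow_pElt (p := p) ((x * g) ^ m)
    exact ⟨m * m', hm.mul_left hm', by rw [pow_mul]; exact h2 _ (pow_mem h3 m') h4⟩
  have key : ∀ g ∈ closure (conjSet A), ∃ m : ℕ, m.Coprime p ∧ g ^ m ∈ conjSet A := by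
    intro g hg
    induction hg using closure_induction_left with
    | one => exact ⟨1, by simp, 1, by simp⟩
    | mul_left y hy g _ ih => exact step y hy g ih
    | inv_mul_cancel y hy g _ ih => exact step _ (inv_mem_conjSet hy) g ih
  intro g hg
  obtain ⟨m, hm, h⟩ := key g (hgen ▸ mem_top g)
  have h1 := hs _ h (pow_mem hg m)
  obtain ⟨k, hk⟩ := pElt_of_mem P.isPGroup' hg
  have h2 : m.Coprime (orderOf g) :=
    Nat.Coprime.coprime_dvd_right (orderOf_dvd_of_pow_eq_one hk) (hm.pow_right k)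
  exact zpowers_le.2 h1 (mem_zpowers_pow_iff.2 h2)

end closed

theorem not_involves_sl2 [IsSimpleGroup G] (hp5 : 5 ≤ p)
    (hsub : ∀ H : Subgroup G, H ≠ ⊤ → Group.IsSolvable H) : ¬ Involves G SL(2, ZMod p) := by
  rintro ⟨K, f, hf⟩
  have hne : (-1 : SL(2, ZMod p)) ≠ 1 := by
    intro h
    have h1 := congrArg (fun M : SL(2, ZMod p) => M.1 0 0) h
    simp only [Matrix.SpecialLinearGroup.coe_neg, Matrix.SpecialLinearGroup.coe_one,
      Matrix.neg_apply, Matrix.one_apply_eq] at h1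
    have h2 : ((2 : ℕ) : ZMod p) = 0 := by push_cast; linear_combination -h1
    have := Nat.le_of_dvd two_pos ((ZMod.natCast_eq_zero_iff 2 p).1 h2)
    omega
  have hns : ¬ Group.IsSolvable SL(2, ZMod p) := by
    have : Group.IsPerfect SL(2, ZMod p) := ⟨Quad.commutator_sl2_zmod hp5⟩
    have : Nontrivial SL(2, ZMod p) := ⟨_, _, hne⟩
    exact Group.IsPerfect.not_isSolvable _
  by_cases hK : K = ⊤
  · subst hK
    let φ : G →* SL(2, ZMod p) := f.comp topEquiv.symm.toMonoidHom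
    have hφ : Function.Surjective φ := hf.comp topEquiv.symm.surjective
    rcases (inferInstance : ((center SL(2, ZMod p)).comap φ).Normal).eq_bot_or_eq_top with h | h
    · obtain ⟨g, hg⟩ := hφ (-1)
      have : g ∈ (center SL(2, ZMod p)).comap φ := by
        rw [mem_comap, hg, mem_center_iff]
        intro x
        ext i j
        simp
      rw [h, mem_bot] at this
      exact hne (by rw [← hg, this, map_one])
    · refine hns (Group.isSolvable_of_comm fun a b => ?_)
      obtain ⟨g, rfl⟩ := hφ b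
      exact mem_center_iff.1 (show g ∈ (center SL(2, ZMod p)).comap φ from h ▸ mem_top g) a
  · have := hsub K hK
    exact hns (Group.isSolvable_of_surjective hf)

theorem closure_eq_top_of_conj [IsSimpleGroup G] {s : Set G} (hs : ∀ x ∈ s, ∀ g, g * x * g⁻¹ ∈ s)
    {x : G} (hx : x ∈ s) (hx1 : x ≠ 1) : closure s = ⊤ := by
  have : (closure s).Normal := ⟨fun y hy g => by
    have : (closure s).map (MulAut.conj g).toMonoidHom ≤ closure s := by
      rw [MonoidHom.map_closure]
      exact closure_mono (by rintro _ ⟨z, hz, rfl⟩; exact hs z hz g)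
    exact this (mem_map_of_mem _ hy)⟩
  exact this.eq_bot_or_eq_top.resolve_left fun h => hx1 (mem_bot.1 (h ▸ subset_closure hx))

theorem comm_of_minimal [IsSimpleGroup G] (hp5 : 5 ≤ p) (hd : p ∣ Nat.card G)
    (hsub : ∀ H : Subgroup G, H ≠ ⊤ → Group.IsSolvable H)
    (two : ∀ a b : G, Group.IsSolvable (closure ({a, b} : Set G))) (Q : Subgroup G)
    (hQ : IsPGroup p Q) : IsMulCommutative Q := by
  obtain ⟨P, hP⟩ := hQ.exists_le_sylow
  have hcs := controlsStrong_normalizer_Z_of_sl2 (by omega) (Or.inr rfl)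
    (not_involves_sl2 hp5 hsub) P
  have hne := ZJ.Z_ne_bot (e := p) (Or.inr rfl) P.isPGroup' (P.ne_bot_of_dvd_card hd)
  obtain ⟨⟨z, hz⟩, hz1⟩ := ne_bot_iff_exists_ne_one.1 hne
  have hle := sylow_le_of_closure P (A := ZJ.Z p (P : Subgroup G)) ZJ.ZJ_le ZJ.ZJ_comm ?_ hp5 two
    (closure_eq_top_of_conj (fun x hx g => conj_mem_conjSet hx g) (x := z) ⟨1, by simpa using hz⟩
      (fun h => hz1 (Subtype.ext h)))
  · have := ZJ.ZJ_comm (e := p) (T := (P : Subgroup G))
    exact ⟨⟨fun a b => Subtype.ext (setLike_mul_comm (hle (hP a.2)) (hle (hP b.2)))⟩⟩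
  · rintro x ⟨g, hg⟩ hx
    obtain ⟨k, hk, he⟩ := hcs (zpowers x) g (mem_top g) (zpowers_le.2 hx) (by
      rw [Cj.conj_zpowers, zpowers_le]; exact ZJ.ZJ_le hg)
    rw [← he x (mem_zpowers x)] at hg
    exact (mem_normalizer_iff.1 hk x).2 hg

omit hp in
theorem false_of_minimal [IsSimpleGroup G] (hG : ¬ Group.IsSolvable G)
    (hsub : ∀ H : Subgroup G, H ≠ ⊤ → Group.IsSolvable H)
    (two : ∀ a b : G, Group.IsSolvable (closure ({a, b} : Set G))) : False := by
  obtain ⟨p, hp, hd, h2, h3⟩ : ∃ p : ℕ, p.Prime ∧ p ∣ Nat.card G ∧ p ≠ 2 ∧ p ≠ 3 := by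
    by_contra h
    refine hG (CL.Char.isSolvable_of_forall_prime_dvd Nat.prime_two Nat.prime_three
      fun r hr hd => ?_)
    by_contra h'
    push Not at h'
    exact h ⟨r, hr, hd, h'⟩
  have : Fact p.Prime := ⟨hp⟩
  have hp5 : 5 ≤ p := hp.five_le_of_ne_two_of_ne_three h2 h3
  have hnc : ∀ N : Subgroup G, N.Normal → Group.IsSolvable N → N = ⊥ := fun N hN hs =>
    hN.eq_bot_or_eq_top.resolve_right fun h => by
      subst h
      exact hG (Group.isSolvable_of_surjective (f := (⊤ : Subgroup G).subtype)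
        fun g => ⟨⟨g, mem_top g⟩, rfl⟩)
  have h : Hyp p G := ⟨h2, two, comm_of_minimal hp5 hd hsub two, fun w hw => hsub _ fun h => by
      have : w ∈ center G := mem_center_iff.2 fun g =>
        mem_centralizer_singleton_iff.1 (h ▸ mem_top g)
      rw [hnc (center G) inferInstance (Group.isSolvable_of_comm fun a b =>
        Subtype.ext (mem_center_iff.1 b.2 a))] at this
      exact hw (mem_bot.1 this),
    fun X hX => hsub _ fun h => by
      rw [h, card_top] at hX
      exact hp.one_lt.ne' (Nat.Coprime.eq_one_of_dvd hX.symm hd)⟩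
  obtain ⟨x, hx⟩ := exists_prime_orderOf_dvd_card' p hd
  obtain ⟨P⟩ : Nonempty (Sylow p G) := inferInstance
  have hP := h.normalizer_le_centralizer (closure_eq_top_of_conj (s := {y : G | orderOf y = p})
    (fun y hy g => (MulEquiv.orderOf_eq (MulAut.conj g) y).trans hy) hx
    (fun h => hp.one_lt.ne (by rw [← hx, h, orderOf_one]))) P
  have hc := MonoidHom.ker_transferSylow_isComplement' P hP
  rcases (inferInstance : (MonoidHom.transferSylow P hP).ker.Normal).eq_bot_or_eq_top with h | h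
  · rw [h, isComplement'_bot_left] at hc
    have h1 := P.isPGroup'
    rw [hc] at h1
    have := h1.isNilpotent
    exact hG (Group.isSolvable_of_surjective (f := (⊤ : Subgroup G).subtype)
        fun g => ⟨⟨g, mem_top g⟩, rfl⟩)
  · rw [h, isComplement'_top_left] at hc
    exact P.ne_bot_of_dvd_card hd hc

universe u

theorem isSolvable_aux (n : ℕ) : ∀ (G : Type u) [Group G] [Finite G], Nat.card G = n →
    (∀ a b : G, Group.IsSolvable (closure ({a, b} : Set G))) → Group.IsSolvable G := by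
  induction n using Nat.strong_induction_on with
  | _ n ih =>
  intro G _ _ hn two
  have hmap : ∀ {K : Type u} [Group K] (f : G →* K) (a b : G),
      Group.IsSolvable (closure ({f a, f b} : Set K)) := fun f a b => by
    have := two a b
    rw [← Set.image_pair, ← MonoidHom.map_closure]
    exact Group.isSolvable_of_surjective (f.subgroupMap_surjective _)
  have hsub : ∀ H : Subgroup G, H ≠ ⊤ → Group.IsSolvable H := fun H hH =>
    ih _ (hn ▸ (card_lt_of_ne_top H hH)) H rfl fun a b => by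
      have := two a b
      refine Group.isSolvable_of_isSolvable_injective
        (f := (inclusion (H := (closure {a, b}).map H.subtype) (K := closure {(a : G), (b : G)})
          (by rw [MonoidHom.map_closure, Set.image_pair]; rfl)).comp
          (H.subtype.subgroupMap _)) ?_
      exact fun x y h => Subtype.ext (Subtype.ext (congrArg Subtype.val h :))
  by_contra hG
  have : Nontrivial G := by
    by_contra h
    have := not_nontrivial_iff_subsingleton.1 h
    exact hG inferInstance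
  have : IsSimpleGroup G := ⟨fun N hN => by
    by_contra h
    push Not at h
    have := hsub N h.2
    have : Group.IsSolvable (G ⧸ N) := ih _ (hn ▸ card_quotient_lt N h.1) (G ⧸ N) rfl fun a b => by
      obtain ⟨a, rfl⟩ := QuotientGroup.mk'_surjective N a
      obtain ⟨b, rfl⟩ := QuotientGroup.mk'_surjective N b
      exact hmap _ a b
    exact hG (Group.isSolvable_of_ker_le_range N.subtype (QuotientGroup.mk' N) (by simp))⟩
  exact false_of_minimal hG hsub two

end CL.TwoGen
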